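import Groth.Agent.Lib.SymLoc53.Core
import Groth.Agent.Lib.PolLaw.GammaTS
import Groth.Agent.Lib.PolLaw.SymPoints

/-!
# Symmetric tensors as the model ring of a chart
-/

set_option autoImplicit false

universe u

open scoped TensorProduct

namespace Groth.Agent.Lib.SymLoc53.Sym

open PolLaw

variable {R : Type u} [CommRing R] {M : Type u} [CommRing M] [Algebra R M] {d : ℕ}

theorem perm_one (x : ⨂[R] _ : Fin d, M) : SymTen.perm R M d 1 x = x := by
  induction x using PiTensorProduct.induction_on with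
  | smul_tprod r f =>
    rw [map_smul, SymTen.perm_tprod]
    rfl
  | add x y hx hy => rw [map_add, hx, hy]

theorem perm_mul (σ τ : Equiv.Perm (Fin d)) (x : ⨂[R] _ : Fin d, M) :
    SymTen.perm R M d (σ * τ) x = SymTen.perm R M d σ (SymTen.perm R M d τ x) := by
  induction x using PiTensorProduct.induction_on with
  | smul_tprod r f =>
    simp only [map_smul, SymTen.perm_tprod]
    rfl
  | add x y hx hy => simp only [map_add, hx, hy]

/-- The permutation action on the tensor power, with the group lifted. -/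
noncomputable instance action : MulSemiringAction (ULift.{u} (Equiv.Perm (Fin d))) (⨂[R] _ : Fin d, M) where
  smul g x := SymTen.perm R M d g.down x
  one_smul := perm_one
  mul_smul g h x := perm_mul g.down h.down x
  smul_zero g := map_zero (SymTen.perm R M d g.down)
  smul_add g := map_add (SymTen.perm R M d g.down)
  smul_one g := map_one (SymTen.perm R M d g.down)
  smul_mul g := map_mul (SymTen.perm R M d g.down)

theorem smul_def (g : ULift.{u} (Equiv.Perm (Fin d))) (x : ⨂[R] _ : Fin d, M) :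
    g • x = SymTen.perm R M d g.down x := rfl

theorem fixed_iff (x : ⨂[R] _ : Fin d, M) :
    (∀ g : ULift.{u} (Equiv.Perm (Fin d)), g • x = x) ↔ x ∈ SymTen.TS R M d := by
  refine ⟨fun h σ => ?_, fun h g => ?_⟩
  · rw [← SymTen.perm_apply]; exact h ⟨σ⟩
  · rw [smul_def, SymTen.perm_apply]; exact h g.down

theorem hfix_scalar (g : ULift.{u} (Equiv.Perm (Fin d))) (r : R) :
    g • algebraMap R (⨂[R] _ : Fin d, M) r = algebraMap R _ r :=
  (SymTen.perm R M d g.down).commutes r

theorem hflat [Module.Flat R M] {l : ℕ} (f : Fin l → R) (n : Fin l → ⨂[R] _ : Fin d, M)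
    (hn : ∀ i, ∀ g : ULift.{u} (Equiv.Perm (Fin d)), g • n i = n i) (hsum : ∑ i, f i • n i = 0) :
    ∃ (k : ℕ) (s : Fin l → Fin k → R) (y : Fin k → ⨂[R] _ : Fin d, M),
      (∀ j, ∀ g : ULift.{u} (Equiv.Perm (Fin d)), g • y j = y j) ∧
        (∀ i, n i = ∑ j, s i j • y j) ∧ ∀ j, ∑ i, f i * s i j = 0 := by
  haveI := GammaTS.flat_TS (A := R) (B := M) (d := d)
  let n' : Fin l → SymTen.TS R M d := fun i => ⟨n i, (fixed_iff _).mp (hn i)⟩
  have h' : ∑ i, f i • n' i = 0 := Subtype.ext (by simpa [n'] using hsum)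
  obtain ⟨k, s, y, hy, hs⟩ := Module.Flat.isTrivialRelation_of_sum_smul_eq_zero h'
  refine ⟨k, s, fun j => (y j).1, fun j => (fixed_iff _).mpr (y j).2, fun i => ?_, hs⟩
  have := congrArg Subtype.val (hy i)
  simpa [n'] using this

theorem coef_fixed {n : ℕ} (b : Fin n → M) (ν : Fin n →₀ ℕ) (g : ULift.{u} (Equiv.Perm (Fin d))) :
    g • Coeff.coef (SymTen.tpowLaw R M d).law b ν = Coeff.coef (SymTen.tpowLaw R M d).law b ν := by
  have h := FlatSym.tm_orbit (d := d) ((Pi.basisFun R (Fin n)).constr R b) ν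
  simp only [Module.Basis.constr_basis] at h
  rw [smul_def, SymTen.perm_apply, ← h, ← FlatTensor.tm_reindex, FlatSym.reindex_orbit]

variable {R' : Type u} [CommRing R'] [Algebra R R'] {M' : Type u} [CommRing M'] [Algebra R' M']
  [Algebra R M'] [IsScalarTower R R' M'] (μ : M →ₐ[R] M')

variable (R') in
/-- The map between tensor powers over two bases. -/
noncomputable def mapBC : (⨂[R] _ : Fin d, M) →ₐ[R] (⨂[R'] _ : Fin d, M') :=
  SymPoints.prodLift fun i =>
    ((PiTensorProduct.singleAlgHom (R := R') (A := fun _ : Fin d => M') i).restrictScalars R).comp μ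

theorem mapBC_tprod (b : Fin d → M) :
    mapBC R' μ (PiTensorProduct.tprod R b) = PiTensorProduct.tprod R' fun i => μ (b i) := by
  rw [mapBC, SymPoints.prodLift_tprod]
  exact Tpow.prod_singleAlgHom R' M' d fun i => μ (b i)

theorem mapBC_single (i : Fin d) (b : M) :
    mapBC R' μ (PiTensorProduct.singleAlgHom (A := fun _ : Fin d => M) i b) =
      PiTensorProduct.singleAlgHom (R := R') (A := fun _ : Fin d => M') i (μ b) :=
  SymPoints.prodLift_single _ i b

theorem mapBC_smul (g : ULift.{u} (Equiv.Perm (Fin d))) (x : ⨂[R] _ : Fin d, M) :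
    mapBC R' μ (g • x) = g • mapBC R' μ x := by
  induction x using PiTensorProduct.induction_on with
  | smul_tprod r f =>
    simp only [smul_def, map_smul, SymTen.perm_tprod, mapBC_tprod]
    rw [algebra_compatible_smul R' r, algebra_compatible_smul R' r, map_smul, SymTen.perm_tprod]
  | add x y hx hy => simp only [smul_def] at hx hy ⊢; simp only [map_add, hx, hy]

theorem mapBC_coef {n : ℕ} (b : Fin n → M) (ν : Fin n →₀ ℕ) :
    mapBC R' μ (Coeff.coef (SymTen.tpowLaw R M d).law b ν) =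
      Coeff.coef (SymTen.tpowLaw R' M' d).law (fun i => μ (b i)) ν := by
  classical
  simp only [Tpow.coef_tpow, map_sum]
  refine Finset.sum_congr rfl fun c _ => ?_
  split_ifs <;> simp [mapBC_tprod]

variable (R') in
/-- The span over the new scalars of the images of invariants. -/
noncomputable def genSpan : Submodule R' (⨂[R'] _ : Fin d, M') :=
  Submodule.span R' (mapBC R' μ '' {x | ∀ g : ULift.{u} (Equiv.Perm (Fin d)), g • x = x})

theorem exists_of_mem_genSpan {x : ⨂[R'] _ : Fin d, M'} (hx : x ∈ genSpan R' μ) :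
    ∃ (l : ℕ) (r : Fin l → R') (m : Fin l → ⨂[R] _ : Fin d, M),
      (∀ i, ∀ g : ULift.{u} (Equiv.Perm (Fin d)), g • m i = m i) ∧
        x = ∑ i, algebraMap R' (⨂[R'] _ : Fin d, M') (r i) * mapBC R' μ (m i) := by
  induction hx using Submodule.span_induction with
  | mem x hx =>
    obtain ⟨y, hy, rfl⟩ := hx
    exact ⟨1, fun _ => 1, fun _ => y, fun _ => hy, by simp⟩
  | zero => exact ⟨0, Fin.elim0, Fin.elim0, fun i => i.elim0, by simp⟩
  | add x y _ _ hx hy =>
    obtain ⟨l, r, m, hm, rfl⟩ := hx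
    obtain ⟨l', r', m', hm', rfl⟩ := hy
    refine ⟨l + l', Fin.append r r', Fin.append m m',
      fun i => by refine Fin.addCases (fun j => ?_) (fun j => ?_) i <;> simp [hm, hm'], ?_⟩
    rw [Fin.sum_univ_add]
    simp
  | smul a x _ hx =>
    obtain ⟨l, r, m, hm, rfl⟩ := hx
    refine ⟨l, fun i => a * r i, m, hm, ?_⟩
    simp [Algebra.smul_def, Finset.mul_sum, mul_assoc]

variable (hμ : Submodule.span R' (Set.range μ) = ⊤)

include hμ in
theorem toTensor_mem (z : Gamma.Alg R' M' d) : Tpow.toTensor R' M' d z ∈ genSpan R' μ := by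
  classical
  obtain ⟨n, b', a, rfl⟩ := GammaTS.exists_combination z
  simp only [map_sum, map_smul, Tpow.toTensor, Gamma.lift_cls]
  refine Submodule.sum_mem _ fun ν _ => Submodule.smul_mem _ _ ?_
  obtain ⟨p, b, hb⟩ : ∃ (p : ℕ) (b : Fin p → M),
      ∀ k, b' k ∈ Submodule.span R' (Set.range fun i => μ (b i)) := by
    have hk : ∀ k, ∃ T : Finset M, b' k ∈ Submodule.span R' (μ '' (T : Set M)) := fun k => by
      have h : b' k ∈ Submodule.span R' (Set.range μ) := hμ ▸ Submodule.mem_top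
      obtain ⟨T, hT, hmem⟩ := Submodule.mem_span_finite_of_mem_span h
      choose pre hpre using fun x : T => hT x.2
      classical
      refine ⟨Finset.univ.image pre, Submodule.span_mono ?_ hmem⟩
      intro x hx
      exact ⟨pre ⟨x, hx⟩, by simp, hpre ⟨x, hx⟩⟩
    choose T hT using hk
    let U := Finset.univ.biUnion T
    refine ⟨U.card, fun i => (U.equivFin.symm i : M), fun k => Submodule.span_mono ?_ (hT k)⟩
    rintro _ ⟨x, hx, rfl⟩
    have hxU : x ∈ U := Finset.mem_biUnion.mpr ⟨k, Finset.mem_univ _, hx⟩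
    exact ⟨U.equivFin ⟨x, hxU⟩, by simp⟩
  refine (Submodule.span_le (p := genSpan R' μ)).mpr ?_
    (Coeff.coef_mem_span_of_mem_span _ (fun i => μ (b i)) b' hb ν.1)
  rintro _ ⟨κ, rfl⟩
  exact Submodule.subset_span ⟨_, fun g => coef_fixed b κ g, mapBC_coef μ b κ⟩

include hμ in
theorem hgen [Module.Flat R' M'] (n : ⨂[R'] _ : Fin d, M')
    (hn : ∀ g : ULift.{u} (Equiv.Perm (Fin d)), g • n = n) :
    ∃ (l : ℕ) (r : Fin l → R') (m : Fin l → ⨂[R] _ : Fin d, M),
      (∀ i, ∀ g : ULift.{u} (Equiv.Perm (Fin d)), g • m i = m i) ∧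
        n = ∑ i, algebraMap R' (⨂[R'] _ : Fin d, M') (r i) * mapBC R' μ (m i) := by
  obtain ⟨z, rfl⟩ := GammaTS.exists_toTensor_of_flat ((fixed_iff n).mp hn)
  exact exists_of_mem_genSpan μ (toTensor_mem μ hμ z)

include hμ in
theorem hres {L : Type u} [Field L] (χ : (⨂[R'] _ : Fin d, M') →+* L) (n : ⨂[R'] _ : Fin d, M')
    (hn : ∀ g : ULift.{u} (Equiv.Perm (Fin d)), g • n = n) :
    ∃ r₀ : R', χ (algebraMap R' _ r₀) ≠ 0 ∧
      ∃ (l : ℕ) (r : Fin l → R') (m : Fin l → ⨂[R] _ : Fin d, M),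
        (∀ i, ∀ g : ULift.{u} (Equiv.Perm (Fin d)), g • m i = m i) ∧
          χ (algebraMap R' _ r₀ * n) =
            χ (∑ i, algebraMap R' (⨂[R'] _ : Fin d, M') (r i) * mapBC R' μ (m i)) := by
  letI : Algebra R' L := (χ.comp (algebraMap R' _)).toAlgebra
  let π : (⨂[R'] _ : Fin d, M') →ₐ[R'] L := { χ with commutes' := fun _ => rfl }
  obtain ⟨a, ha, c, hc⟩ := SymPoints.exists_fraction (Tpow.toTensor R' M' d)
    (Gamma.postcomp_lift_univ _) L π n (fun σ => hn ⟨σ⟩)
  obtain ⟨l, r, m, hm, hrm⟩ := exists_of_mem_genSpan μ (toTensor_mem μ hμ c)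
  refine ⟨a, ha, l, r, m, hm, ?_⟩
  rw [map_mul, ← hrm]
  exact hc

end Groth.Agent.Lib.SymLoc53.Sym
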