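import Groth.Agent.Lib.SymLoc53.Point
import Groth.Agent.Lib.SymLoc53.Sym

/-!
# Charts over a map of families
-/

set_option autoImplicit false
set_option backward.isDefEq.respectTransparency false

universe u

open CategoryTheory CategoryTheory.Limits AlgebraicGeometry TopologicalSpace Opposite
open scoped TensorProduct

namespace Groth.Agent.Lib.SymLoc53.Geom

variable {X S X' S' : Scheme.{u}} {f : X ⟶ S} {f' : X' ⟶ S'} {e : X' ⟶ X} {g₀ : S' ⟶ S} {d : ℕ}
  (hw : e ≫ f = f' ≫ g₀)

variable (d) in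
/-- The map of fibre powers over a map of families. -/
noncomputable def powMap : SymProd.fibPow f' d ⟶ SymProd.fibPow f d :=
  WidePullback.lift (WidePullback.base (fun _ : Fin d => f') ≫ g₀)
    (fun i => WidePullback.π (fun _ : Fin d => f') i ≫ e)
    (fun i => by rw [Category.assoc, hw, WidePullback.π_arrow_assoc])

theorem powMap_π (i : Fin d) : powMap d hw ≫ WidePullback.π (fun _ : Fin d => f) i =
    WidePullback.π (fun _ : Fin d => f') i ≫ e := WidePullback.lift_π _ _ _ _ i

theorem powMap_base : powMap d hw ≫ WidePullback.base (fun _ : Fin d => f) =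
    WidePullback.base (fun _ : Fin d => f') ≫ g₀ := WidePullback.lift_base _ _ _ _

theorem permHom_powMap (σ : Equiv.Perm (Fin d)) :
    SymProd.permHom f' d σ ≫ powMap d hw = powMap d hw ≫ SymProd.permHom f d σ := by
  apply WidePullback.hom_ext
  · intro i
    rw [Category.assoc, Category.assoc, powMap_π, SymProd.permHom_π, powMap_π, SymProd.permHom_π_assoc]
  · rw [Category.assoc, Category.assoc, powMap_base, SymProd.permHom_base, powMap_base,
      SymProd.permHom_base_assoc]

variable (f' e g₀) in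
/-- An affine datum over a datum. -/
structure BC (D : Product.Datum f d) where
  V' : S'.Opens
  hV' : IsAffineOpen V'
  le' : V' ≤ g₀ ⁻¹ᵁ D.V
  haff : ∀ j, IsAffineOpen (e ⁻¹ᵁ D.U j ⊓ f' ⁻¹ᵁ V')

namespace BC

variable {D : Product.Datum f d} (B : BC f' e g₀ D)

/-- The pulled back datum. -/
def D' : Product.Datum f' d where
  V := B.V'
  hV := B.hV'
  J := D.J
  fintypeJ := D.fintypeJ
  decEqJ := D.decEqJ
  U := fun j => e ⁻¹ᵁ D.U j ⊓ f' ⁻¹ᵁ B.V'
  hU := B.haff
  le := fun _ => inf_le_right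
  c := D.c

noncomputable instance algR : Algebra D.R B.D'.R := (g₀.appLE D.V B.V' B.le').hom.toAlgebra

noncomputable instance algM : Algebra D.R B.D'.M :=
  ((algebraMap B.D'.R B.D'.M).comp (g₀.appLE D.V B.V' B.le').hom).toAlgebra

instance towerM : IsScalarTower D.R B.D'.R B.D'.M := IsScalarTower.of_algebraMap_eq fun _ => rfl

/-- The map of product rings. -/
noncomputable def μ : D.M →ₐ[D.R] B.D'.M where
  toFun m := fun j => e.appLE (D.U j) (B.D'.U j) inf_le_left (m j)
  map_one' := funext fun j => map_one _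
  map_mul' m m' := funext fun j => map_mul _ _ _
  map_zero' := funext fun j => map_zero _
  map_add' m m' := funext fun j => map_add _ _ _
  commutes' r := funext fun j => by
    show e.appLE (D.U j) (B.D'.U j) inf_le_left (f.appLE D.V (D.U j) (D.le j) r) =
      f'.appLE B.V' (B.D'.U j) inf_le_right (g₀.appLE D.V B.V' B.le' r)
    rw [← CommRingCat.comp_apply, ← CommRingCat.comp_apply, Scheme.Hom.appLE_comp_appLE,
      Scheme.Hom.appLE_comp_appLE]
    exact congr($(Product.appLE_congr_hom hw D.V (B.D'.U j) _ _) r)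

/-- The map of tensor powers. -/
noncomputable def μN : D.N →ₐ[D.R] B.D'.N := Sym.mapBC B.D'.R (B.μ hw)

theorem μ_one' (j : D.J) : B.μ hw (D.one' j) = B.D'.one' j := by
  funext k
  show e.appLE (D.U k) (B.D'.U k) inf_le_left ((Pi.single j 1 : D.M) k) = (Pi.single j 1 : B.D'.M) k
  rcases eq_or_ne k j with rfl | h
  · rw [Pi.single_eq_same, Pi.single_eq_same, map_one]
  · rw [Pi.single_eq_of_ne h, Pi.single_eq_of_ne h, map_zero]

theorem μN_e : B.μN hw D.e = B.D'.e := by
  simp only [Product.Datum.e, map_prod, μN, Sym.mapBC_single, μ_one']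
  rfl

theorem μN_tElt (n : D.N) : B.μN hw (tElt D n) = tElt B.D' (B.μN hw n) := by
  letI := Fintype.ofFinite (colourGrp D)
  simp only [tElt, map_prod]
  refine Finset.prod_congr rfl fun h _ => ?_
  rw [μN, Sym.mapBC_smul, map_mul]
  exact congrArg _ (congrArg _ (B.μN_e hw))

theorem W'_eq : B.D'.W = powMap d hw ⁻¹ᵁ D.W ⊓ WidePullback.base (fun _ : Fin d => f') ⁻¹ᵁ B.V' := by
  ext x
  rw [SetLike.mem_coe, SetLike.mem_coe, B.D'.mem_W, TopologicalSpace.Opens.mem_inf]
  constructor
  · rintro ⟨h1, h2⟩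
    refine ⟨D.mem_W.mpr ⟨?_, fun i => ?_⟩, h1⟩
    · rw [← Scheme.Hom.comp_apply, powMap_base, Scheme.Hom.comp_apply]
      exact B.le' h1
    · rw [← Scheme.Hom.comp_apply, powMap_π, Scheme.Hom.comp_apply]
      exact (h2 i).1
  · rintro ⟨h1, h2⟩
    refine ⟨h2, fun i => ⟨?_, ?_⟩⟩
    · have := (D.mem_W.mp h1).2 i
      rw [← Scheme.Hom.comp_apply, powMap_π, Scheme.Hom.comp_apply] at this
      exact this
    · show f' (WidePullback.π (fun _ : Fin d => f') i x) ∈ B.V'
      rw [← Scheme.Hom.comp_apply, WidePullback.π_arrow]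
      exact h2

theorem W'_le : B.D'.W ≤ powMap d hw ⁻¹ᵁ D.W := (B.W'_eq hw).le.trans inf_le_left

theorem factor_map (i : Fin d) (m : D.M) :
    B.D'.factor i (B.μ hw m) = (powMap d hw).appLE D.W B.D'.W (B.W'_le hw) (D.factor i m) := by
  rw [Product.Datum.factor_apply, Product.Datum.factor_apply]
  show (WidePullback.π (fun _ : Fin d => f') i).appLE (B.D'.U (D.c i)) B.D'.W (B.D'.W_le i)
    (e.appLE (D.U (D.c i)) (B.D'.U (D.c i)) inf_le_left (m (D.c i))) = _
  rw [← CommRingCat.comp_apply, ← CommRingCat.comp_apply, Scheme.Hom.appLE_comp_appLE,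
    Scheme.Hom.appLE_comp_appLE]
  exact congr($(Product.appLE_congr_hom (powMap_π hw i).symm (D.U (D.c i)) B.D'.W _ _) (m (D.c i)))

theorem toW_map (n : D.N) :
    B.D'.toW (B.μN hw n) = (powMap d hw).appLE D.W B.D'.W (B.W'_le hw) (D.toW n) := by
  induction n using PiTensorProduct.induction_on with
  | add x y hx hy => simp only [map_add, hx, hy]
  | smul_tprod r m =>
    rw [show r • PiTensorProduct.tprod D.R m = algebraMap D.R D.N r * PiTensorProduct.tprod D.R m
        from by rw [Algebra.algebraMap_eq_smul_one, smul_mul_assoc, one_mul],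
      map_mul, map_mul, map_mul, map_mul, AlgHom.commutes D.toW, AlgHom.commutes,
      IsScalarTower.algebraMap_apply D.R B.D'.R B.D'.N, AlgHom.commutes B.D'.toW]
    rw [μN, Sym.mapBC_tprod, Product.Datum.toW, Product.Datum.toW, PolLaw.SymPoints.prodLift_tprod,
      PolLaw.SymPoints.prodLift_tprod, map_prod]
    simp only [factor_map]
    congr 1
    show (WidePullback.base (fun _ : Fin d => f')).appLE B.V' B.D'.W B.D'.W_le_base
      (g₀.appLE D.V B.V' B.le' r) = (powMap d hw).appLE D.W B.D'.W (B.W'_le hw)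
        ((WidePullback.base (fun _ : Fin d => f)).appLE D.V D.W D.W_le_base r)
    rw [← CommRingCat.comp_apply, ← CommRingCat.comp_apply, Scheme.Hom.appLE_comp_appLE,
      Scheme.Hom.appLE_comp_appLE]
    exact congr($(Product.appLE_congr_hom (powMap_base hw).symm D.V B.D'.W _ _) r)

theorem span_μ
    (hspan : ∀ j : B.D'.J, Submodule.span B.D'.R
      (Set.range (e.appLE (D.U j) (B.D'.U j) inf_le_left)) = (⊤ : Submodule B.D'.R Γ(X', B.D'.U j))) :
    Submodule.span B.D'.R (Set.range (B.μ hw)) = ⊤ := by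
  classical
  rw [eq_top_iff]
  intro m _
  rw [← Finset.univ_sum_single m]
  refine Submodule.sum_mem _ fun j _ => ?_
  have h : m j ∈ Submodule.span B.D'.R (Set.range (e.appLE (D.U j) (B.D'.U j) inf_le_left)) := by
    rw [hspan j]; trivial
  have h2 := Submodule.mem_map_of_mem
    (f := LinearMap.single B.D'.R (fun j => Γ(X', B.D'.U j)) j) h
  rw [Submodule.map_span] at h2
  refine Submodule.span_mono ?_ h2
  rintro _ ⟨_, ⟨y, rfl⟩, rfl⟩
  refine ⟨Pi.single j y, funext fun k => ?_⟩
  show e.appLE (D.U k) (B.D'.U k) inf_le_left ((Pi.single j y : D.M) k) = _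
  rcases eq_or_ne k j with rfl | hne
  · simp
  · simp [Pi.single_eq_of_ne hne]

theorem flat_M' [Flat f'] : Module.Flat B.D'.R B.D'.M := by
  haveI : ∀ j, Module.Flat B.D'.R Γ(X', B.D'.U j) := fun j =>
    f'.flat_appLE B.hV' (B.haff j) inf_le_right
  exact Module.Flat.of_linearEquiv
    (DirectSum.linearEquivFunOnFintype B.D'.R D.J fun j => Γ(X', B.D'.U j)).symm

end BC

variable {Y : Scheme.{u}} {q : SymProd.fibPow f d ⟶ Y} {g : Y ⟶ S} (hq : SymProd.IsSymProd f d q g)
  {U : Y.Opens}

variable (U) in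
/-- The stable open upstairs. -/
noncomputable def upOpen (V' : S'.Opens) : StableOpen f' d where
  toOpens := powMap d hw ⁻¹ᵁ (stableOf hq U).toOpens ⊓
    WidePullback.base (fun _ : Fin d => f') ⁻¹ᵁ V'
  le σ := by
    intro x hx
    obtain ⟨h1, h2⟩ := hx
    refine ⟨?_, ?_⟩
    · show powMap d hw (SymProd.permHom f' d σ x) ∈ (stableOf hq U).toOpens
      rw [← Scheme.Hom.comp_apply, permHom_powMap, Scheme.Hom.comp_apply]
      exact (stableOf hq U).le σ h1
    · show WidePullback.base (fun _ : Fin d => f') (SymProd.permHom f' d σ x) ∈ V'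
      rw [← Scheme.Hom.comp_apply, SymProd.permHom_base]
      exact h2

variable (U) in
/-- The map on sections. -/
noncomputable def upMap (V' : S'.Opens) :
    Γ(SymProd.fibPow f d, (stableOf hq U).toOpens) →+*
      Γ(SymProd.fibPow f' d, (upOpen hw hq U V').toOpens) :=
  ((powMap d hw).appLE (stableOf hq U).toOpens (upOpen hw hq U V').toOpens inf_le_left).hom

variable (U) in
/-- The scalars upstairs. -/
noncomputable def upScal (V' : S'.Opens) :
    Γ(S', V') →+* Γ(SymProd.fibPow f' d, (upOpen hw hq U V').toOpens) :=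
  ((WidePullback.base (fun _ : Fin d => f')).appLE V' (upOpen hw hq U V').toOpens inf_le_right).hom

theorem upMap_smul (V' : S'.Opens) (h : ULift.{u} (Equiv.Perm (Fin d)))
    (s : Γ(SymProd.fibPow f d, (stableOf hq U).toOpens)) :
    upMap hw hq U V' (h • s) = h • upMap hw hq U V' s := by
  rw [StableOpen.smul_def, StableOpen.smul_def]
  show (powMap d hw).appLE _ _ _ ((SymProd.permHom f d h.down⁻¹).appLE _ _ _ s) =
    (SymProd.permHom f' d h.down⁻¹).appLE _ _ _ ((powMap d hw).appLE _ _ _ s)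
  rw [← CommRingCat.comp_apply, ← CommRingCat.comp_apply, Scheme.Hom.appLE_comp_appLE,
    Scheme.Hom.appLE_comp_appLE]
  exact congr($(Product.appLE_congr_hom (permHom_powMap hw h.down⁻¹).symm _ _ _ _) s)

theorem upScal_smul (V' : S'.Opens) (h : ULift.{u} (Equiv.Perm (Fin d))) (r : Γ(S', V')) :
    h • upScal hw hq U V' r = upScal hw hq U V' r := by
  rw [StableOpen.smul_def]
  show (SymProd.permHom f' d h.down⁻¹).appLE _ _ _
    ((WidePullback.base (fun _ : Fin d => f')).appLE _ _ _ r) = _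
  rw [← CommRingCat.comp_apply, Scheme.Hom.appLE_comp_appLE]
  exact congr($(Product.appLE_congr_hom (SymProd.permHom_base f' d h.down⁻¹) _ _ _ _) r)

variable {V : S.Opens} {x : SymProd.fibPow f d} (P : PointChart hq U V x) (B : BC f' e g₀ P.D)
  (hU : IsAffineOpen U) (hQ' : IsAffineOpen (upOpen hw hq U B.V').toOpens)

theorem up_hab : (SymProd.fibPow f' d).basicOpen (upMap hw hq U B.V' P.a) =
    (SymProd.fibPow f' d).basicOpen (B.D'.toW (B.μN hw P.n)) := by
  show (SymProd.fibPow f' d).basicOpen ((powMap d hw).appLE _ _ _ P.a) = _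
  rw [BC.toW_map, Scheme.basicOpen_appLE, Scheme.basicOpen_appLE, P.hab]
  ext z
  simp only [TopologicalSpace.Opens.coe_inf, Set.mem_inter_iff, SetLike.mem_coe]
  refine ⟨fun ⟨⟨_, h1⟩, h2⟩ => ⟨?_, h2⟩, fun ⟨h1, h2⟩ => ⟨⟨?_, ?_⟩, h2⟩⟩
  · rw [B.W'_eq hw]
    exact ⟨(SymProd.fibPow f d).basicOpen_le _ h2, h1⟩
  · have h2' : powMap d hw z ∈ (SymProd.fibPow f d).basicOpen P.a := by rw [P.hab]; exact h2
    exact (SymProd.fibPow f d).basicOpen_le P.a h2'
  · rw [B.W'_eq hw] at h1
    exact h1.2

theorem up_fix : ∀ h ∈ colourGrp B.D', h • upMap hw hq U B.V' P.a = upMap hw hq U B.V' P.a :=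
  fun h hh => by rw [← upMap_smul, P.a_fix h hh]

include hU in
theorem isAffineOpen_stableOf : IsAffineOpen (stableOf hq U).toOpens :=
  haveI := hq.isQuot.affine
  hU.preimage q

/-- The chart downstairs. -/
noncomputable def downChart : Chart (ULift.{u} (Equiv.Perm (Fin d)))
    Γ(SymProd.fibPow f d, (stableOf hq U).toOpens) P.D.N :=
  chart P.D (stableOf hq U) (isAffineOpen_stableOf hq hU) P.a P.a_fix P.n P.hab

/-- The chart upstairs. -/
noncomputable def upChart : Chart (ULift.{u} (Equiv.Perm (Fin d)))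
    Γ(SymProd.fibPow f' d, (upOpen hw hq U B.V').toOpens) B.D'.N :=
  chart B.D' (upOpen hw hq U B.V') hQ' (upMap hw hq U B.V' P.a) (up_fix hw hq P B) (B.μN hw P.n)
    (up_hab hw hq P B)

theorem chartMap : ChartMap (downChart hq P hU) (upChart hw hq P B hQ') (upMap hw hq U B.V')
    (B.μN hw).toRingHom where
  map_a := rfl
  map_equiv := upMap_smul hw hq B.V'
  exists_map := by
    have hle : (SymProd.fibPow f' d).basicOpen (upMap hw hq U B.V' P.a) ≤
        powMap d hw ⁻¹ᵁ (SymProd.fibPow f d).basicOpen P.a := fun z hz => by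
      have : z ∈ (SymProd.fibPow f' d).basicOpen ((powMap d hw).appLE _ _ _ P.a) := hz
      rw [Scheme.basicOpen_appLE] at this
      exact this.2
    refine ⟨((powMap d hw).appLE _ _ hle).hom, fun s => ?_, fun n => ?_⟩
    · show (powMap d hw).appLE _ _ hle
        ((SymProd.fibPow f d).presheaf.map (homOfLE ((SymProd.fibPow f d).basicOpen_le P.a)).op s) =
        (SymProd.fibPow f' d).presheaf.map
          (homOfLE ((SymProd.fibPow f' d).basicOpen_le (upMap hw hq U B.V' P.a))).op
          ((powMap d hw).appLE (stableOf hq U).toOpens (upOpen hw hq U B.V').toOpens inf_le_left s)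
      rw [← CommRingCat.comp_apply, ← CommRingCat.comp_apply, Scheme.Hom.map_appLE, Scheme.Hom.appLE_map]
    · show (powMap d hw).appLE _ _ hle ((SymProd.fibPow f d).presheaf.map _ (P.D.toW n)) =
        (SymProd.fibPow f' d).presheaf.map _ (B.D'.toW (B.μN hw n))
      rw [BC.toW_map, ← CommRingCat.comp_apply, ← CommRingCat.comp_apply, Scheme.Hom.map_appLE,
        Scheme.Hom.appLE_map]
  map_t := B.μN_tElt hw P.n

theorem upScal_compat (r : Γ(S', B.V')) :
    (upChart hw hq P B hQ').α (upScal hw hq U B.V' r) =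
      (upChart hw hq P B hQ').ε (algebraMap B.D'.R B.D'.N r) := by
  show (SymProd.fibPow f' d).presheaf.map _ ((WidePullback.base (fun _ : Fin d => f')).appLE _ _ _ r) =
    (SymProd.fibPow f' d).presheaf.map _ (B.D'.toW (algebraMap B.D'.R B.D'.N r))
  rw [AlgHom.commutes B.D'.toW]
  show _ = (SymProd.fibPow f' d).presheaf.map _
    ((WidePullback.base (fun _ : Fin d => f')).appLE B.V' B.D'.W B.D'.W_le_base r)
  rw [← CommRingCat.comp_apply, ← CommRingCat.comp_apply, Scheme.Hom.appLE_map, Scheme.Hom.appLE_map]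

end Groth.Agent.Lib.SymLoc53.Geom
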