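import Groth.Agent.Lib.SchQuot.FlatBaseChange

/-!
Quotients by finite groups commute with base change to schemes where the order of the group is invertible.
-/

universe u

open CategoryTheory CategoryTheory.Limits AlgebraicGeometry TopologicalSpace Opposite
open scoped TensorProduct
open Groth.Agent.Lib.SchQuot

namespace Groth.Agent.Lib.SymLoc53.TameBC

/-- The fixed points commute with base change when the order of the group is invertible. -/
theorem range_of_fixed_tame {ι B A B' A' : Type u} [Fintype ι] [CommRing B] [CommRing A] [CommRing B']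
    [CommRing A'] [Algebra B A] [Algebra B B'] [Algebra B' A'] [Algebra A A'] [Algebra B A']
    [IsScalarTower B B' A'] [IsScalarTower B A A'] [Algebra.IsPushout B B' A A']
    (hG : IsUnit ((Nat.card ι : ℕ) : B'))
    (hinj : Function.Injective (algebraMap B A)) (σ : ι → (A →ₐ[B] A))
    (σ' : ι → (A' →ₐ[B'] A')) (hσ : ∀ i a, σ' i (algebraMap A A' a) = algebraMap A A' (σ i a))
    (hsum : ∀ a, ∃ b, algebraMap B A b = ∑ i, σ i a) :
    Function.Injective (algebraMap B' A') ∧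
      ∀ s : A', (∀ i, σ' i s = s) → s ∈ Set.range (algebraMap B' A') := by
  let e := Algebra.IsPushout.equiv B B' A A'
  classical
  obtain ⟨c, hc⟩ := hG.exists_left_inv
  choose t ht using hsum
  let r : A →ₗ[B] B :=
    { toFun := t
      map_add' := fun x y => hinj (by simp [ht, Finset.sum_add_distrib])
      map_smul' := fun b x => hinj (by
        rw [RingHom.id_apply, smul_eq_mul, map_mul, ht, ht, Finset.mul_sum]
        simp [Algebra.smul_def]) }
  have hr : r ∘ₗ Algebra.linearMap B A = (Nat.card ι : B) • LinearMap.id := LinearMap.ext fun b => by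
    refine hinj ?_
    show algebraMap B A (t (algebraMap B A b)) = algebraMap B A ((Nat.card ι : B) * b)
    rw [ht, map_mul, map_natCast, Nat.card_eq_fintype_card]
    simp
  have hir : Algebra.linearMap B A ∘ₗ r = ∑ i, (σ i).toLinearMap := LinearMap.ext fun a => by
    show algebraMap B A (t a) = _
    rw [ht, LinearMap.sum_apply]
    rfl
  have hone : ∀ b' : B', algebraMap B' A' b' = e (b' ⊗ₜ[B] algebraMap B A 1) := fun b' => by
    rw [Algebra.IsPushout.equiv_tmul, map_one, map_one, mul_one]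
  refine ⟨fun a b hab => ?_, fun s hs => ?_⟩
  · rw [hone, hone] at hab
    have h := congrArg (fun z => TensorProduct.rid B B' (r.lTensor B' z)) (e.injective hab)
    simp only [LinearMap.lTensor_tmul, TensorProduct.rid_tmul] at h
    have h1 : r (algebraMap B A 1) = (Nat.card ι : B) := by
      refine (LinearMap.congr_fun hr 1).trans ?_
      simp
    rw [h1, Algebra.smul_def, Algebra.smul_def, map_natCast] at h
    exact hG.mul_left_cancel h
  · obtain ⟨z, rfl⟩ := e.surjective s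
    have hcomm : ∀ i z, σ' i (e z) = e ((σ i).toLinearMap.lTensor B' z) := by
      intro i z
      induction z using TensorProduct.induction_on with
      | zero => simp
      | add x y hx hy => rw [map_add, map_add, hx, hy, map_add, map_add]
      | tmul b' a =>
        rw [LinearMap.lTensor_tmul, Algebra.IsPushout.equiv_tmul, Algebra.IsPushout.equiv_tmul,
          map_mul, AlgHom.commutes, hσ]
        rfl
    have hz : ∀ i, (σ i).toLinearMap.lTensor B' z = z := fun i =>
      e.injective ((hcomm i z).symm.trans (hs i))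
    have hzz : (Algebra.linearMap B A).lTensor B' (r.lTensor B' z) = Nat.card ι • z := by
      rw [← LinearMap.comp_apply, ← LinearMap.lTensor_comp, hir,
        ← LinearMap.coe_lTensorHom, map_sum, LinearMap.sum_apply]
      simp only [LinearMap.coe_lTensorHom, hz, Finset.sum_const, Finset.card_univ,
        Nat.card_eq_fintype_card]
    have hw : ∀ w : B' ⊗[B] B,
        algebraMap B' A' (TensorProduct.rid B B' w) = e ((Algebra.linearMap B A).lTensor B' w) := by
      intro w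
      induction w using TensorProduct.induction_on with
      | zero => simp
      | add x y hx hy => simp only [map_add, hx, hy]
      | tmul b' b =>
        rw [LinearMap.lTensor_tmul, TensorProduct.rid_tmul, Algebra.IsPushout.equiv_tmul,
          Algebra.smul_def, map_mul, mul_comm, ← IsScalarTower.algebraMap_apply B B' A',
          Algebra.linearMap_apply, ← IsScalarTower.algebraMap_apply B A A']
    refine ⟨c * TensorProduct.rid B B' (r.lTensor B' z), ?_⟩
    rw [map_mul, hw, hzz, map_nsmul, nsmul_eq_mul, ← mul_assoc, ← map_natCast (algebraMap B' A'),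
      ← map_mul, hc, map_one, one_mul]

theorem isQuot_baseChange {X Y X' Y' : Scheme.{u}} {G : Type u} [Group G] [Finite G]
    {ρ : G →* Aut X} {p : X ⟶ Y} (hp : SGA1.IsQuot ρ p) {qY : Y' ⟶ Y}
    (hG : ∀ U : Y'.Opens, IsUnit ((Nat.card G : ℕ) : Γ(Y', U))) {pX : X' ⟶ X}
    {p' : X' ⟶ Y'} (hX : IsPullback pX p' p qY) (ρ' : G →* Aut X')
    (hρ₁ : ∀ g : G, (ρ' g).hom ≫ pX = pX ≫ (ρ g).hom) (hρ₂ : ∀ g : G, (ρ' g).hom ≫ p' = p') :
    SGA1.IsQuot ρ' p' := by
  cases nonempty_fintype G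
  have := hp.affine
  have : IsAffineHom p' := MorphismProperty.of_isPullback hX hp.affine
  have key : ∀ V : Y'.Opens, IsAffineOpen V →
      (∃ U : Y.Opens, IsAffineOpen U ∧ V ≤ qY ⁻¹ᵁ U) →
      Function.Injective (p'.app V).hom ∧
        ∀ s, (∀ g : G, IsQuot.pull hρ₂ g V s = s) → s ∈ Set.range (p'.app V).hom := by
    rintro V hV ⟨U, hU, hVU⟩
    have hXle : p' ⁻¹ᵁ V ≤ pX ⁻¹ᵁ (p ⁻¹ᵁ U) := fun x hx => by
      show p (pX x) ∈ U
      rw [← Scheme.Hom.comp_apply, hX.w]
      exact hVU hx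
    have hUY : p' ⁻¹ᵁ V = pX ⁻¹ᵁ (p ⁻¹ᵁ U) ⊓ p' ⁻¹ᵁ V := (inf_eq_right.mpr hXle).symm
    have hpo := (isIso_pushoutSection_iff hX hVU le_rfl hUY).mp
      (isIso_pushoutSection_of_isAffineOpen hX hVU le_rfl hUY hU hV (hU.preimage p))
    let := (p.app U).hom.toAlgebra
    let := (qY.appLE U V hVU).hom.toAlgebra
    let := (p'.app V).hom.toAlgebra
    let := (pX.appLE (p ⁻¹ᵁ U) (p' ⁻¹ᵁ V) hXle).hom.toAlgebra
    let := ((p'.app V).hom.comp (qY.appLE U V hVU).hom).toAlgebra
    have : IsScalarTower Γ(Y, U) Γ(Y', V) Γ(X', p' ⁻¹ᵁ V) := .of_algebraMap_eq fun _ => rfl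
    have hw : p.app U ≫ pX.appLE (p ⁻¹ᵁ U) (p' ⁻¹ᵁ V) hXle = qY.appLE U V hVU ≫ p'.app V := by
      simp only [Scheme.Hom.app_eq_appLE, Scheme.Hom.appLE_comp_appLE, hX.w]
    have : IsScalarTower Γ(Y, U) Γ(X, p ⁻¹ᵁ U) Γ(X', p' ⁻¹ᵁ V) :=
      .of_algebraMap_eq fun b => congr($(hw.symm) b)
    have : Algebra.IsPushout Γ(Y, U) Γ(Y', V) Γ(X, p ⁻¹ᵁ U) Γ(X', p' ⁻¹ᵁ V) := by
      refine CommRingCat.isPushout_iff_isPushout.mp ?_
      show IsPushout (qY.appLE U V hVU) (p.app U) (p'.app V) (pX.appLE (p ⁻¹ᵁ U) (p' ⁻¹ᵁ V) hXle)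
      simp only [Scheme.Hom.app_eq_appLE]
      exact hpo.flip
    have hcb : ∀ g b, IsQuot.pull hp.inv g U (p.app U b) = p.app U b := fun g b => by
      rw [← CommRingCat.comp_apply, IsQuot.app_pull hp]
    have hcb' : ∀ g b, IsQuot.pull hρ₂ g V (p'.app V b) = p'.app V b := fun g b => by
      rw [← CommRingCat.comp_apply, IsQuot.pull, Scheme.Hom.app_eq_appLE,
        Scheme.Hom.appLE_comp_appLE]
      simp only [hρ₂ g]
    let σ : G → (Γ(X, p ⁻¹ᵁ U) →ₐ[Γ(Y, U)] Γ(X, p ⁻¹ᵁ U)) := fun g =>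
      { __ := (IsQuot.pull hp.inv g U).hom, commutes' := hcb g }
    let σ' : G → (Γ(X', p' ⁻¹ᵁ V) →ₐ[Γ(Y', V)] Γ(X', p' ⁻¹ᵁ V)) := fun g =>
      { __ := (IsQuot.pull hρ₂ g V).hom, commutes' := hcb' g }
    refine range_of_fixed_tame (B := Γ(Y, U)) (B' := Γ(Y', V)) (A := Γ(X, p ⁻¹ᵁ U))
      (A' := Γ(X', p' ⁻¹ᵁ V)) (hG V) (hp.injective U) σ σ' (fun g a => ?_)
      ?_
    swap
    · let := IsQuot.action hp U
      have := IsQuot.smulCommClass hp U
      have := IsQuot.isInvariant hp U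
      intro a
      obtain ⟨b, hb⟩ := Algebra.IsInvariant.isInvariant (A := Γ(Y, U)) (G := G)
        (∑ g : G, IsQuot.pull hp.inv g U a) fun h => by
          show IsQuot.pull hp.inv h⁻¹ U _ = _
          rw [map_sum]
          refine Fintype.sum_equiv (Equiv.mulRight h⁻¹) _ _ fun g => ?_
          rw [← CommRingCat.comp_apply, ← IsQuot.pull_mul hp]
          rfl
      exact ⟨b, hb⟩
    show IsQuot.pull hρ₂ g V (pX.appLE (p ⁻¹ᵁ U) (p' ⁻¹ᵁ V) hXle a) =
      pX.appLE (p ⁻¹ᵁ U) (p' ⁻¹ᵁ V) hXle (IsQuot.pull hp.inv g U a)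
    rw [← CommRingCat.comp_apply, ← CommRingCat.comp_apply, IsQuot.pull, IsQuot.pull,
      Scheme.Hom.appLE_comp_appLE, Scheme.Hom.appLE_comp_appLE]
    simp only [hρ₁ g]
  refine Local.isQuot_of_basis
    (B := {V : Y'.Opens | IsAffineOpen V ∧ ∃ U : Y.Opens, IsAffineOpen U ∧ V ≤ qY ⁻¹ᵁ U})
    ?_ hρ₂ (fun V hV => (key V hV.1 hV.2).1) (fun V hV => (key V hV.1 hV.2).2)
  refine Opens.isBasis_iff_nbhd.mpr fun {O x} hx => ?_
  obtain ⟨_, ⟨U, hU, rfl⟩, hy, -⟩ :=
    Y.isBasis_affineOpens.exists_subset_of_mem_open (Set.mem_univ (qY x)) isOpen_univ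
  obtain ⟨_, ⟨V, hV, rfl⟩, hxV, hVO⟩ := Y'.isBasis_affineOpens.exists_subset_of_mem_open
    (show x ∈ (O ⊓ qY ⁻¹ᵁ U : Y'.Opens) from ⟨hx, hy⟩) (O ⊓ qY ⁻¹ᵁ U).isOpen
  exact ⟨V, ⟨hV, U, hU, fun z hz => (hVO hz).2⟩, hxV, fun z hz => (hVO hz).1⟩

end Groth.Agent.Lib.SymLoc53.TameBC
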