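import Groth.Agent.Lib.SymLoc53.Compare
import Groth.Agent.Lib.SymLoc53.TameBC

/-!
# The two cases of the comparison: base change and closed subschemes
-/

set_option autoImplicit false
set_option backward.isDefEq.respectTransparency false

universe u

open CategoryTheory CategoryTheory.Limits AlgebraicGeometry TopologicalSpace Opposite
open scoped TensorProduct

namespace Groth.Agent.Lib.SymLoc53.Geom

variable {X S S' : Scheme.{u}} (f : X ⟶ S) (gS : S' ⟶ S)

theorem isAffineOpen_pullback {V : S.Opens} (hV : IsAffineOpen V) {W : X.Opens} (hW : IsAffineOpen W)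
    {V' : S'.Opens} (hV' : IsAffineOpen V') (hWV : W ≤ f ⁻¹ᵁ V) (hV'V : V' ≤ gS ⁻¹ᵁ V) :
    IsAffineOpen (pullback.fst f gS ⁻¹ᵁ W ⊓ pullback.snd f gS ⁻¹ᵁ V') := by
  have : IsAffine V.toScheme := hV
  have : IsAffine W.toScheme := hW
  have : IsAffine V'.toScheme := hV'
  exact .of_isIso (Scheme.Hom.isPullback_resLE (IsPullback.of_hasPullback f gS) hV'V hWV rfl).isoPullback.hom

theorem good_pullback {V : S.Opens} (hV : IsAffineOpen V) {V' : S'.Opens} (hV' : IsAffineOpen V')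
    (hV'V : V' ≤ gS ⁻¹ᵁ V) : Good f (pullback.snd f gS) (pullback.fst f gS) V V' := by
  refine ⟨fun W hW hWV => isAffineOpen_pullback f gS hV hW hV' hWV hV'V, fun W hW hWV => ?_⟩
  have H := IsPullback.of_hasPullback f gS
  have hpo := (isIso_pushoutSection_iff H hV'V hWV (UY := pullback.fst f gS ⁻¹ᵁ W ⊓ pullback.snd f gS ⁻¹ᵁ V') rfl).mp
    (isIso_pushoutSection_of_isAffineOpen H hV'V hWV rfl hV hV' hW)
  let O := pullback.fst f gS ⁻¹ᵁ W ⊓ pullback.snd f gS ⁻¹ᵁ V'
  letI : Algebra Γ(S, V) Γ(X, W) := (f.appLE V W hWV).hom.toAlgebra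
  letI : Algebra Γ(S, V) Γ(S', V') := (gS.appLE V V' hV'V).hom.toAlgebra
  letI : Algebra Γ(S', V') Γ(pullback f gS, O) :=
    ((pullback.snd f gS).appLE V' O inf_le_right).hom.toAlgebra
  letI : Algebra Γ(X, W) Γ(pullback f gS, O) :=
    ((pullback.fst f gS).appLE W O inf_le_left).hom.toAlgebra
  letI : Algebra Γ(S, V) Γ(pullback f gS, O) :=
    (((pullback.snd f gS).appLE V' O inf_le_right).hom.comp (gS.appLE V V' hV'V).hom).toAlgebra
  haveI : IsScalarTower Γ(S, V) Γ(S', V') Γ(pullback f gS, O) := .of_algebraMap_eq fun _ => rfl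
  haveI : IsScalarTower Γ(S, V) Γ(X, W) Γ(pullback f gS, O) := .of_algebraMap_eq fun b => by
    show (pullback.snd f gS).appLE V' O inf_le_right (gS.appLE V V' hV'V b) =
      (pullback.fst f gS).appLE W O inf_le_left (f.appLE V W hWV b)
    rw [← CommRingCat.comp_apply, ← CommRingCat.comp_apply]
    exact congr($(hpo.w.symm) b)
  haveI : Algebra.IsPushout Γ(S, V) Γ(S', V') Γ(X, W) Γ(pullback f gS, O) := by
    refine CommRingCat.isPushout_iff_isPushout.mp ?_
    exact hpo.flip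
  show Submodule.span Γ(S', V') (Set.range fun w : Γ(X, W) =>
    (pullback.fst f gS).appLE W O inf_le_left w) = ⊤
  refine eq_top_iff.mpr fun z _ => ?_
  obtain ⟨t, rfl⟩ := (Algebra.IsPushout.equiv Γ(S, V) Γ(S', V') Γ(X, W) Γ(pullback f gS, O)).surjective z
  induction t using TensorProduct.induction_on with
  | zero => rw [map_zero]; exact zero_mem _
  | add a b ha hb => rw [map_add]; exact add_mem (ha trivial) (hb trivial)
  | tmul a b =>
    rw [Algebra.IsPushout.equiv_tmul, ← Algebra.smul_def]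
    exact Submodule.smul_mem _ _ (Submodule.subset_span ⟨b, rfl⟩)

theorem good_closed {Z : Scheme.{u}} (i : Z ⟶ X) [IsClosedImmersion i] {V : S.Opens} :
    Good f (i ≫ f) i V V := by
  have heq : ∀ W : X.Opens, W ≤ f ⁻¹ᵁ V → i ⁻¹ᵁ W ⊓ (i ≫ f) ⁻¹ᵁ V = i ⁻¹ᵁ W := fun W h =>
    inf_eq_left.mpr fun z hz => by
      show (i ≫ f) z ∈ V
      rw [Scheme.Hom.comp_apply]; exact h hz
  refine ⟨fun W hW hWV => (heq W hWV).symm ▸ hW.preimage i, fun W hW hWV => ?_⟩
  have hs : ∀ O : Z.Opens, ∀ e : O = i ⁻¹ᵁ W, Function.Surjective (i.appLE W O e.le) := by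
    rintro O rfl
    rw [← Scheme.Hom.app_eq_appLE]
    exact i.app_surjective W hW
  letI := ((i ≫ f).appLE V (i ⁻¹ᵁ W ⊓ (i ≫ f) ⁻¹ᵁ V) inf_le_right).hom.toAlgebra
  show Submodule.span Γ(S, V) (Set.range (i.appLE W (i ⁻¹ᵁ W ⊓ (i ≫ f) ⁻¹ᵁ V) inf_le_left)) = ⊤
  rw [(hs _ (heq W hWV)).range_eq, Submodule.span_univ]

variable {Z : Scheme.{u}} (i : Z ⟶ X) (d : ℕ)

theorem closed_w : i ≫ f = (i ≫ f) ≫ 𝟙 S := (Category.comp_id _).symm

theorem powMap_closed :
    powMap d (closed_w f i) = SymProd.fibPowMap (i ≫ f) d f i rfl := by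
  apply WidePullback.hom_ext
  · intro j
    rw [powMap_π, SymProd.fibPowMap_π]
  · rw [powMap_base, SymProd.fibPowMap_base, Category.comp_id]

/-- Fibre powers of a closed immersion are closed immersions. -/
theorem isClosedImmersion_fibPowMap [IsClosedImmersion i] :
    IsClosedImmersion (SymProd.fibPowMap (i ≫ f) d f i rfl) := by
  rw [← powMap_closed]
  have hD : ∀ x : SymProd.fibPow f d, ∃ D : Product.Datum f d, x ∈ D.W := fun x => by
    obtain ⟨_, ⟨V, hV, rfl⟩, hxV, -⟩ := S.isBasis_affineOpens.exists_subset_of_mem_open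
      (Set.mem_univ (WidePullback.base (fun _ : Fin d => f) x)) isOpen_univ
    have hch : ∀ j : ULift.{u} (Fin d), ∃ W : X.Opens, IsAffineOpen W ∧
        WidePullback.π (fun _ : Fin d => f) j.down x ∈ W ∧ W ≤ f ⁻¹ᵁ V := fun j => by
      have hm : WidePullback.π (fun _ : Fin d => f) j.down x ∈ f ⁻¹ᵁ V := by
        show f _ ∈ V
        rw [← Scheme.Hom.comp_apply, WidePullback.π_arrow]
        exact hxV
      obtain ⟨_, ⟨W, hW, rfl⟩, h1, h2⟩ :=
        X.isBasis_affineOpens.exists_subset_of_mem_open hm (f ⁻¹ᵁ V).isOpen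
      exact ⟨W, hW, h1, h2⟩
    choose W hW hm hle using hch
    let D : Product.Datum f d :=
      { V := V, hV := hV, J := ULift.{u} (Fin d), U := W, hU := hW, le := hle, c := ULift.up }
    exact ⟨D, D.mem_W.mpr ⟨hxV, fun j => hm ⟨j⟩⟩⟩
  choose D hxD using hD
  refine IsZariskiLocalAtTarget.of_iSup_eq_top (P := @IsClosedImmersion)
    (fun x => (D x).W) (eq_top_iff.mpr fun x _ => Opens.mem_iSup.mpr ⟨x, hxD x⟩) fun x => ?_
  let B : BC (i ≫ f) i (𝟙 S) (D x) :=
    { V' := (D x).V, hV' := (D x).hV, le' := le_rfl,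
      haff := fun j => (good_closed f i).affine _ ((D x).hU j) ((D x).le j) }
  have hμ : Function.Surjective (B.μ (closed_w f i)) := by
    intro m
    have hs : ∀ j : B.D'.J, ∀ y : Γ(Z, B.D'.U j), ∃ a, i.appLE ((D x).U j) (B.D'.U j) inf_le_left a = y := by
      intro j
      have e : B.D'.U j = i ⁻¹ᵁ (D x).U j := inf_eq_left.mpr fun z hz => by
        show (i ≫ f) z ∈ (D x).V
        rw [Scheme.Hom.comp_apply]; exact (D x).le j hz
      have key : ∀ O : Z.Opens, ∀ e : O = i ⁻¹ᵁ (D x).U j,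
          Function.Surjective (i.appLE ((D x).U j) O e.le) := by
        rintro O rfl
        rw [← Scheme.Hom.app_eq_appLE]
        exact i.app_surjective _ ((D x).hU j)
      exact key _ e
    choose a ha using fun j => hs j (m j)
    exact ⟨a, funext ha⟩
  have hN : Function.Surjective (B.μN (closed_w f i)) := by
    intro n
    induction n using PiTensorProduct.induction_on with
    | add a b ha hb =>
      obtain ⟨a', rfl⟩ := ha
      obtain ⟨b', rfl⟩ := hb
      exact ⟨a' + b', map_add _ _ _⟩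
    | smul_tprod c m =>
      choose a ha using fun j => hμ (m j)
      have hr : ∃ r : (D x).R, (𝟙 S : S ⟶ S).appLE (D x).V B.V' B.le' r = c := ⟨c, by
        simp only [B, Scheme.Hom.appLE]
        exact congrArg (fun φ => φ c) ((Category.id_comp _).trans (S.presheaf.map_id _))⟩
      obtain ⟨r, hr⟩ := hr
      refine ⟨algebraMap (D x).R (D x).N r * PiTensorProduct.tprod (D x).R a, ?_⟩
      rw [map_mul, AlgHom.commutes, BC.μN, Sym.mapBC_tprod,
        IsScalarTower.algebraMap_apply (D x).R B.D'.R B.D'.N]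
      rw [show algebraMap (D x).R B.D'.R r = c from hr, funext ha, Algebra.algebraMap_eq_smul_one,
        smul_mul_assoc, one_mul]
  have hpre : powMap d (closed_w f i) ⁻¹ᵁ (D x).W = B.D'.W := by
    rw [B.W'_eq (closed_w f i)]
    refine (inf_eq_left.mpr fun z hz => ?_).symm
    show WidePullback.base (fun _ : Fin d => i ≫ f) z ∈ (D x).V
    have h := ((D x).mem_W.mp hz).1
    rw [← Scheme.Hom.comp_apply, powMap_base, Category.comp_id] at h
    exact h
  haveI : IsAffine (D x).W.toScheme := (D x).isAffineOpen_W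
  haveI : IsAffine (powMap d (closed_w f i) ⁻¹ᵁ (D x).W).toScheme := hpre ▸ B.D'.isAffineOpen_W
  refine IsClosedImmersion.of_surjective_of_isAffine _ ?_
  rw [morphismRestrict_appTop]
  have hsurj : ∀ O : (SymProd.fibPow f d).Opens, O = (D x).W →
      Function.Surjective ((powMap d (closed_w f i)).app O) := by
    rintro O rfl
    intro s
    obtain ⟨w, hw⟩ : ∃ w, (powMap d (closed_w f i)).appLE (D x).W B.D'.W (B.W'_le _) w =
        (SymProd.fibPow (i ≫ f) d).presheaf.map (homOfLE hpre.ge).op s := by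
      obtain ⟨n', hn'⟩ := B.D'.toW_surjective ((SymProd.fibPow (i ≫ f) d).presheaf.map (homOfLE hpre.ge).op s)
      obtain ⟨n, rfl⟩ := hN n'
      exact ⟨_, (B.toW_map (closed_w f i) n).symm.trans hn'⟩
    refine ⟨w, ?_⟩
    have hb : Function.Injective ((SymProd.fibPow (i ≫ f) d).presheaf.map (homOfLE hpre.ge).op) := by
      have : IsIso (homOfLE hpre.ge) := ⟨homOfLE hpre.le, Subsingleton.elim _ _, Subsingleton.elim _ _⟩
      exact (ConcreteCategory.bijective_of_isIso _).1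
    refine hb (Eq.trans ?_ hw)
    rw [← CommRingCat.comp_apply]
    rfl
  intro y
  obtain ⟨z, hz⟩ := (ConcreteCategory.bijective_of_isIso (C := CommRingCat)
    ((SymProd.fibPow (i ≫ f) d).presheaf.map
      (eqToHom (image_morphismRestrict_preimage (powMap d (closed_w f i)) (D x).W ⊤)).op)).2 y
  obtain ⟨a, ha⟩ := hsurj _ (Scheme.Opens.ι_image_top _) z
  refine ⟨a, ?_⟩
  erw [CommRingCat.comp_apply, ha, hz]

end Groth.Agent.Lib.SymLoc53.Geom

namespace Groth.Agent.Lib.SymLoc53.Geom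

theorem isClosedImmersion_tame {X S X' S' Y Y' T : Scheme.{u}} {f : X ⟶ S} {f' : X' ⟶ S'} {e : X' ⟶ X}
    {g₀ : S' ⟶ S} {d : ℕ} (hw : e ≫ f = f' ≫ g₀) {q : SymProd.fibPow f d ⟶ Y} {g : Y ⟶ S}
    (hq : SymProd.IsSymProd f d q g) {r : SymProd.fibPow f' d ⟶ Y'}
    (hr : SGA1.IsQuot (SymProd.permActU f' d) r) (m : Y' ⟶ T) (π : T ⟶ Y) (σT : T ⟶ S')
    (hc₁ : r ≫ m ≫ π = powMap d hw ≫ q) (hc₂ : r ≫ m ≫ σT = WidePullback.base (fun _ : Fin d => f'))
    [IsIntegralHom (r ≫ m)] [IsClosedImmersion (powMap d hw)]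
    (hG : IsUnit ((Nat.card (ULift.{u} (Equiv.Perm (Fin d))) : ℕ) : Γ(S', ⊤)))
    (hcover : ∀ t : T, ∃ (V : S.Opens) (U : Y.Opens) (V' : S'.Opens),
      Nice f f' e g₀ g π σT V U V' ∧ t ∈ π ⁻¹ᵁ U ⊓ σT ⁻¹ᵁ V' ∧
        WidePullback.base (fun _ : Fin d => f') ⁻¹ᵁ V' ≥ powMap d hw ⁻¹ᵁ (q ⁻¹ᵁ U)) :
    IsClosedImmersion m := by
  haveI : IsAffineHom m := SchQuot.Props.isAffineHom_of_comp hr m inferInstance
  choose V U V' hN ht hbig using hcover
  refine IsZariskiLocalAtTarget.of_iSup_eq_top (P := @IsClosedImmersion)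
    (fun t => π ⁻¹ᵁ U t ⊓ σT ⁻¹ᵁ V' t) (eq_top_iff.mpr fun t _ => Opens.mem_iSup.mpr ⟨t, ht t⟩) fun t => ?_
  haveI : IsAffine (π ⁻¹ᵁ U t ⊓ σT ⁻¹ᵁ V' t).toScheme := (hN t).hΩ
  haveI : IsAffine (m ⁻¹ᵁ (π ⁻¹ᵁ U t ⊓ σT ⁻¹ᵁ V' t)).toScheme := (hN t).hΩ.preimage m
  refine IsClosedImmersion.of_surjective_of_isAffine _ ?_
  rw [morphismRestrict_appTop]
  have main : Function.Surjective (m.app (π ⁻¹ᵁ U t ⊓ σT ⁻¹ᵁ V' t)) := by
    obtain ⟨hQ', Rg, hRg, hscal, hinv, hfix⟩ := local_data hw hq hr m π σT hc₁ hc₂ (hN t)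
    intro s
    let le₁ := (upOpen_eq hw hq m π σT hc₁ hc₂ (U t) (V' t)).le
    let z := r.appLE (m ⁻¹ᵁ (π ⁻¹ᵁ U t ⊓ σT ⁻¹ᵁ V' t)) (upOpen hw hq (U t) (V' t)).toOpens
      (le₁.trans (Scheme.Hom.comp_preimage r m _).le) s
    have hsurj : Function.Surjective (upMap hw hq (U t) (V' t)) := by
      have hQeq : (upOpen hw hq (U t) (V' t)).toOpens = powMap d hw ⁻¹ᵁ (stableOf hq (U t)).toOpens :=
        inf_eq_left.mpr (hbig t)
      have key : ∀ O : (SymProd.fibPow f' d).Opens, ∀ h : O = powMap d hw ⁻¹ᵁ (stableOf hq (U t)).toOpens,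
          Function.Surjective ((powMap d hw).appLE (stableOf hq (U t)).toOpens O h.le) := by
        rintro O rfl
        rw [← Scheme.Hom.app_eq_appLE]
        exact (powMap d hw).app_surjective _ (isAffineOpen_stableOf hq (hN t).hU)
      exact key _ hQeq
    obtain ⟨a, ha⟩ := hsurj z
    letI := Fintype.ofFinite (ULift.{u} (Equiv.Perm (Fin d)))
    have hb : ∀ k : ULift.{u} (Equiv.Perm (Fin d)),
        k • ∑ h : ULift.{u} (Equiv.Perm (Fin d)), h • a = ∑ h, h • a := fun k => by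
      rw [Finset.smul_sum]
      exact Fintype.sum_equiv (Equiv.mulLeft k) _ _ fun h => (mul_smul k h a).symm
    have hz : upMap hw hq (U t) (V' t) (∑ h : ULift.{u} (Equiv.Perm (Fin d)), h • a) =
        (Nat.card (ULift.{u} (Equiv.Perm (Fin d))) :
          Γ(SymProd.fibPow f' d, (upOpen hw hq (U t) (V' t)).toOpens)) * z := by
      have h1 : ∀ h : ULift.{u} (Equiv.Perm (Fin d)), upMap hw hq (U t) (V' t) (h • a) = z :=
        fun h => (upMap_smul hw hq (V' t) h a).trans ((congrArg (h • ·) ha).trans (hfix s h))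
      rw [map_sum, Finset.sum_congr rfl (fun h _ => h1 h), Finset.sum_const, Finset.card_univ,
        Nat.card_eq_fintype_card, nsmul_eq_mul]
    obtain ⟨c, hc⟩ : ∃ c : Γ(S', V' t), c * (Nat.card (ULift.{u} (Equiv.Perm (Fin d))) : ℕ) = 1 := by
      have h := hG.map (S'.presheaf.map (homOfLE le_top : V' t ⟶ ⊤).op).hom
      rw [map_natCast] at h
      exact h.exists_left_inv
    have hzR : z ∈ Rg := by
      have h := mul_mem (hscal c) (hinv _ hb)
      rwa [hz, ← mul_assoc, ← map_natCast (upScal hw hq (U t) (V' t)), ← map_mul, hc, map_one,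
        one_mul] at h
    rw [hRg] at hzR
    obtain ⟨b, hb'⟩ := hzR
    refine ⟨b, appLE_injective hr.injective _ (upOpen hw hq (U t) (V' t)).toOpens
      ((upOpen_eq hw hq m π σT hc₁ hc₂ (U t) (V' t)).trans (Scheme.Hom.comp_preimage r m _)) ?_⟩
    refine Eq.trans ?_ hb'
    show r.appLE _ _ _ (m.app _ b) = (r ≫ m).appLE _ _ _ b
    rw [← CommRingCat.comp_apply, Scheme.Hom.app_eq_appLE, Scheme.Hom.appLE_comp_appLE]
  have key : ∀ O : T.Opens, O = π ⁻¹ᵁ U t ⊓ σT ⁻¹ᵁ V' t → Function.Surjective (m.app O) := by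
    rintro O rfl
    exact main
  intro y
  obtain ⟨z, hz⟩ := (ConcreteCategory.bijective_of_isIso (C := CommRingCat)
    (Y'.presheaf.map (eqToHom (image_morphismRestrict_preimage m (π ⁻¹ᵁ U t ⊓ σT ⁻¹ᵁ V' t) ⊤)).op)).2 y
  obtain ⟨x, hx⟩ := key _ (Scheme.Opens.ι_image_top _) z
  refine ⟨x, ?_⟩
  erw [CommRingCat.comp_apply, hx, hz]

end Groth.Agent.Lib.SymLoc53.Geom
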