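import Groth.Agent.Lib.SymLoc53.Product

/-!
# The chart attached to a product neighbourhood in a fibre power
-/

set_option autoImplicit false
set_option backward.isDefEq.respectTransparency false

universe u

open CategoryTheory CategoryTheory.Limits AlgebraicGeometry TopologicalSpace Opposite
open scoped TensorProduct

namespace Groth.Agent.Lib.SymLoc53.Geom

variable {X S : Scheme.{u}} {f : X ⟶ S} {d : ℕ}

variable (f d) in
/-- An open of the fibre power stable under the permutations. -/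
structure StableOpen where
  toOpens : (SymProd.fibPow f d).Opens
  le : ∀ σ : Equiv.Perm (Fin d), toOpens ≤ SymProd.permHom f d σ ⁻¹ᵁ toOpens

/-- The sections of a stable open. -/
abbrev StableOpen.Sec (Q : StableOpen f d) : Type u := Γ(SymProd.fibPow f d, Q.toOpens)

theorem appLE_permHom_comp {Q₁ Q₂ Q₃ : (SymProd.fibPow f d).Opens} (σ τ : Equiv.Perm (Fin d))
    (h₁ : Q₁ ≤ SymProd.permHom f d τ ⁻¹ᵁ Q₂) (h₂ : Q₂ ≤ SymProd.permHom f d σ ⁻¹ᵁ Q₃)
    (h₃ : Q₁ ≤ SymProd.permHom f d (σ * τ) ⁻¹ᵁ Q₃) :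
    (SymProd.permHom f d (σ * τ)).appLE Q₃ Q₁ h₃ =
      (SymProd.permHom f d σ).appLE Q₃ Q₂ h₂ ≫ (SymProd.permHom f d τ).appLE Q₂ Q₁ h₁ := by
  rw [Scheme.Hom.appLE_comp_appLE]
  exact Product.appLE_congr_hom (SymProd.permHom_mul f d σ τ) _ _ _ _

theorem appLE_permHom_one (Q : (SymProd.fibPow f d).Opens)
    (h : Q ≤ SymProd.permHom f d 1 ⁻¹ᵁ Q) : (SymProd.permHom f d 1).appLE Q Q h = 𝟙 _ := by
  rw [Product.appLE_congr_hom (SymProd.permHom_one f d) Q Q h le_rfl]
  simp [Scheme.Hom.appLE]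
  exact (SymProd.fibPow f d).presheaf.map_id _

noncomputable instance StableOpen.action (Q : StableOpen f d) :
    MulSemiringAction (ULift.{u} (Equiv.Perm (Fin d))) Γ(SymProd.fibPow f d, Q.toOpens) where
  smul g s := (SymProd.permHom f d g.down⁻¹).appLE Q.toOpens Q.toOpens (Q.le _) s
  one_smul s := by
    show (SymProd.permHom f d (1 : Equiv.Perm (Fin d))⁻¹).appLE Q.toOpens Q.toOpens _ s = s
    simp only [inv_one, appLE_permHom_one]
    rfl
  mul_smul g h s := by
    show (SymProd.permHom f d (g.down * h.down)⁻¹).appLE Q.toOpens Q.toOpens _ s =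
      (SymProd.permHom f d g.down⁻¹).appLE Q.toOpens Q.toOpens _
        ((SymProd.permHom f d h.down⁻¹).appLE Q.toOpens Q.toOpens _ s)
    simp only [mul_inv_rev]
    rw [appLE_permHom_comp _ _ (Q.le _) (Q.le _) (Q.le _)]
    rfl
  smul_zero g := map_zero _
  smul_add g := map_add _
  smul_one g := map_one _
  smul_mul g := map_mul _

theorem StableOpen.smul_def (Q : StableOpen f d) (g : ULift.{u} (Equiv.Perm (Fin d)))
    (s : Γ(SymProd.fibPow f d, Q.toOpens)) :
    g • s = (SymProd.permHom f d g.down⁻¹).appLE Q.toOpens Q.toOpens (Q.le _) s := rfl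

theorem StableOpen.basicOpen_smul (Q : StableOpen f d) (g : ULift.{u} (Equiv.Perm (Fin d)))
    (s : Γ(SymProd.fibPow f d, Q.toOpens)) (x : SymProd.fibPow f d) (hx : x ∈ Q.toOpens) :
    x ∈ (SymProd.fibPow f d).basicOpen (g • s) ↔
      SymProd.permHom f d g.down⁻¹ x ∈ (SymProd.fibPow f d).basicOpen s := by
  rw [smul_def, Scheme.basicOpen_appLE, TopologicalSpace.Opens.mem_inf]
  exact ⟨fun h => h.2, fun h => ⟨hx, h⟩⟩

variable (D : Product.Datum f d)

/-- The permutations respecting the colours. -/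
def colourGrp : Subgroup (ULift.{u} (Equiv.Perm (Fin d))) where
  carrier := {g | ∀ i, D.c (g.down i) = D.c i}
  one_mem' i := rfl
  mul_mem' {g h} hg hh i := (hg (h.down i)).trans (hh i)
  inv_mem' {g} hg i := by
    have h := hg (g.down⁻¹ i)
    rw [show g.down (g.down⁻¹ i) = i from g.down.apply_symm_apply i] at h
    exact h.symm

theorem W_le_perm {g : ULift.{u} (Equiv.Perm (Fin d))} (hg : g ∈ colourGrp D) :
    D.W ≤ SymProd.permHom f d g.down⁻¹ ⁻¹ᵁ D.W := by
  intro x hx
  obtain ⟨hb, hp⟩ := D.mem_W.mp hx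
  refine D.mem_W.mpr ⟨?_, fun i => ?_⟩
  · rw [← Scheme.Hom.comp_apply, SymProd.permHom_base]; exact hb
  · rw [← Scheme.Hom.comp_apply, SymProd.permHom_π, ← hg i]
    exact hp _

/-- The permutations respecting the colours act on the chart. -/
noncomputable def actW {g : ULift.{u} (Equiv.Perm (Fin d))} (hg : g ∈ colourGrp D) :
    Γ(SymProd.fibPow f d, D.W) →ₐ[D.R] Γ(SymProd.fibPow f d, D.W) where
  __ := ((SymProd.permHom f d g.down⁻¹).appLE D.W D.W (W_le_perm D hg)).hom
  commutes' r := by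
    show (SymProd.permHom f d g.down⁻¹).appLE D.W D.W (W_le_perm D hg)
      ((WidePullback.base (fun _ : Fin d => f)).appLE D.V D.W D.W_le_base r) = _
    rw [← CommRingCat.comp_apply, Scheme.Hom.appLE_comp_appLE,
      Product.appLE_congr_hom (SymProd.permHom_base f d g.down⁻¹) D.V D.W _ D.W_le_base]
    rfl

theorem smul_single (g : ULift.{u} (Equiv.Perm (Fin d))) (i : Fin d) (m : D.M) :
    g • (PiTensorProduct.singleAlgHom (R := D.R) (A := fun _ : Fin d => D.M) i m : D.N) =
      PiTensorProduct.singleAlgHom (R := D.R) (A := fun _ : Fin d => D.M) (g.down i) m :=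
  PolLaw.SymPoints.perm_single g.down i m

theorem toW_smul {g : ULift.{u} (Equiv.Perm (Fin d))} (hg : g ∈ colourGrp D) (n : D.N) :
    D.toW (g • n) = actW D hg (D.toW n) := by
  suffices h : D.toW.comp (SymTen.perm D.R D.M d g.down) = (actW D hg).comp D.toW from
    AlgHom.congr_fun h n
  refine PiTensorProduct.algHom_ext fun i => AlgHom.ext fun m => ?_
  refine (congrArg D.toW (smul_single D g i m)).trans ?_
  rw [Product.Datum.toW_single]
  refine Eq.trans ?_ (congrArg (actW D hg) (D.toW_single i m)).symm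
  show _ = (SymProd.permHom f d g.down⁻¹).appLE D.W D.W (W_le_perm D hg) (D.factor i m)
  simp only [Product.Datum.factor_apply]
  rw [← CommRingCat.comp_apply, Scheme.Hom.appLE_comp_appLE]
  have hπ : SymProd.permHom f d g.down⁻¹ ≫ WidePullback.π (fun _ : Fin d => f) i =
      WidePullback.π (fun _ : Fin d => f) (g.down i) := by
    rw [SymProd.permHom_π]
    exact congrArg _ (Equiv.Perm.inv_def g.down ▸ g.down.symm_symm ▸ rfl)
  have key : ∀ (j₁ j₂ : D.J) (hj : j₁ = j₂) (p₁ p₂ : SymProd.fibPow f d ⟶ X) (hp : p₁ = p₂)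
      (e₁ : D.W ≤ p₁ ⁻¹ᵁ D.U j₁) (e₂ : D.W ≤ p₂ ⁻¹ᵁ D.U j₂),
      p₁.appLE (D.U j₁) D.W e₁ (m j₁) = p₂.appLE (D.U j₂) D.W e₂ (m j₂) := by
    intro j₁ j₂ hj p₁ p₂ hp e₁ e₂
    subst hj hp
    rfl
  exact key _ _ (hg i) _ _ hπ.symm _ _

theorem e_smul {g : ULift.{u} (Equiv.Perm (Fin d))} (hg : g ∈ colourGrp D) : g • D.e = D.e := by
  rw [Product.Datum.e, Finset.smul_prod']
  refine Fintype.prod_equiv g.down _ _ fun i => ?_
  rw [smul_single, hg i]

theorem e_orth {g : ULift.{u} (Equiv.Perm (Fin d))} (hg : g ∉ colourGrp D) :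
    D.e * g • D.e = 0 := by
  obtain ⟨i, hi⟩ : ∃ i, D.c (g.down i) ≠ D.c i := by
    by_contra h
    exact hg fun i => by_contra fun hi => h ⟨i, hi⟩
  rw [Product.Datum.e, Finset.smul_prod', ← Finset.mul_prod_erase _ _ (Finset.mem_univ (g.down i)),
    ← Finset.mul_prod_erase _ (fun j => g • _) (Finset.mem_univ i), smul_single, mul_mul_mul_comm,
    ← map_mul]
  have h0 : D.one' (D.c (g.down i)) * D.one' (D.c i) = 0 := by
    rw [Product.Datum.one'_mul]
    simp [Product.Datum.one', hi]
  rw [h0, map_zero, zero_mul]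

variable (Q : StableOpen f d) (hQ : IsAffineOpen Q.toOpens)
  (a : Γ(SymProd.fibPow f d, Q.toOpens)) (ha : ∀ g ∈ colourGrp D, g • a = a)
  (b : D.N)
  (hab : (SymProd.fibPow f d).basicOpen a = (SymProd.fibPow f d).basicOpen (D.toW b))

/-- The localising element in the tensor power. -/
noncomputable def tElt : D.N :=
  letI := Fintype.ofFinite (colourGrp D)
  ∏ h : colourGrp D, h.1 • (b * D.e)

theorem tElt_fix {g : ULift.{u} (Equiv.Perm (Fin d))} (hg : g ∈ colourGrp D) :
    g • tElt D b = tElt D b := by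
  letI := Fintype.ofFinite (colourGrp D)
  rw [tElt, Finset.smul_prod']
  refine Fintype.prod_equiv (Equiv.mulLeft ⟨g, hg⟩) _ _ fun h => ?_
  show g • h.1 • _ = (g * h.1) • _
  rw [mul_smul]

theorem e_mul_tElt : D.e * tElt D b = tElt D b := by
  classical
  letI := Fintype.ofFinite (colourGrp D)
  rw [tElt, ← Finset.mul_prod_erase _ _ (Finset.mem_univ (1 : colourGrp D))]
  simp only [OneMemClass.coe_one, one_smul]
  rw [← mul_assoc, mul_comm D.e, mul_assoc b, D.e_mul_self]

theorem tElt_orth {g : ULift.{u} (Equiv.Perm (Fin d))} (hg : g ∉ colourGrp D) :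
    tElt D b * g • tElt D b = 0 := by
  rw [← e_mul_tElt D b, smul_mul', mul_mul_mul_comm, e_orth D hg, zero_mul]

include ha hab in
theorem basicOpen_tElt :
    (SymProd.fibPow f d).basicOpen (D.toW (tElt D b)) = (SymProd.fibPow f d).basicOpen a := by
  letI := Fintype.ofFinite (colourGrp D)
  have key : ∀ h : colourGrp D,
      (SymProd.fibPow f d).basicOpen (D.toW (h.1 • (b * D.e))) =
        (SymProd.fibPow f d).basicOpen a := fun h => by
    rw [toW_smul D h.2, map_mul D.toW, D.toW_e, mul_one]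
    show (SymProd.fibPow f d).basicOpen ((SymProd.permHom f d h.1.down⁻¹).appLE D.W D.W _ (D.toW b)) = _
    rw [Scheme.basicOpen_appLE, ← hab]
    ext x
    rw [SetLike.mem_coe, SetLike.mem_coe, TopologicalSpace.Opens.mem_inf]
    refine ⟨fun ⟨hxW, hx⟩ => ?_, fun hx => ⟨?_, ?_⟩⟩
    · have hx' : SymProd.permHom f d h.1.down⁻¹ x ∈ Q.toOpens :=
        (SymProd.fibPow f d).basicOpen_le a hx
      have hxQ : x ∈ Q.toOpens := by
        have := Q.le h.1.down hx'
        rwa [← Scheme.Hom.mem_preimage, ← Scheme.Hom.comp_preimage, ← SymProd.permHom_mul,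
          mul_inv_cancel, SymProd.permHom_one] at this
      rw [← ha _ h.2, Q.basicOpen_smul _ _ _ hxQ]
      exact hx
    · exact (SymProd.fibPow f d).basicOpen_le (D.toW b) (hab ▸ hx)
    · have hxQ : x ∈ Q.toOpens := (SymProd.fibPow f d).basicOpen_le a hx
      rw [← ha _ h.2, Q.basicOpen_smul _ _ _ hxQ] at hx
      exact hx
  have hgen : ∀ s : Finset (colourGrp D), s.Nonempty → (SymProd.fibPow f d).basicOpen
      (D.toW (∏ h ∈ s, h.1 • (b * D.e))) =
        (SymProd.fibPow f d).basicOpen a := by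
    intro s hs
    induction hs using Finset.Nonempty.cons_induction with
    | singleton h => rw [Finset.prod_singleton, key]
    | cons h s _ _ ih => rw [Finset.prod_cons, map_mul, Scheme.basicOpen_mul, key, ih, inf_idem]
  exact hgen _ Finset.univ_nonempty

include ha hab in
theorem basicOpen_le_W : (SymProd.fibPow f d).basicOpen a ≤ D.W :=
  (basicOpen_tElt D Q a ha b hab).ge.trans ((SymProd.fibPow f d).basicOpen_le _)

include ha hab hQ in
theorem locN : @IsLocalization.Away D.N _ (tElt D b) Γ(SymProd.fibPow f d, (SymProd.fibPow f d).basicOpen a)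
    _ ((((SymProd.fibPow f d).presheaf.map (homOfLE (basicOpen_le_W D Q a ha b hab)).op).hom.comp
      D.toW.toRingHom).toAlgebra) := by
  have _ := hQ
  letI alg : Algebra D.N Γ(SymProd.fibPow f d, (SymProd.fibPow f d).basicOpen a) :=
    ((((SymProd.fibPow f d).presheaf.map (homOfLE (basicOpen_le_W D Q a ha b hab)).op).hom.comp
      D.toW.toRingHom).toAlgebra)
  let b' := D.toW (tElt D b)
  letI : Algebra Γ(SymProd.fibPow f d, D.W) Γ(SymProd.fibPow f d, (SymProd.fibPow f d).basicOpen a) :=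
    ((SymProd.fibPow f d).presheaf.map (homOfLE (basicOpen_le_W D Q a ha b hab)).op).hom.toAlgebra
  haveI hb : IsLocalization.Away b' Γ(SymProd.fibPow f d, (SymProd.fibPow f d).basicOpen a) :=
    D.isAffineOpen_W.isLocalization_of_eq_basicOpen b' (homOfLE (basicOpen_le_W D Q a ha b hab))
      (basicOpen_tElt D Q a ha b hab).symm
  refine IsLocalization.Away.mk _ ?_ (fun z => ?_) (fun x y hxy => ?_)
  · exact IsLocalization.Away.algebraMap_isUnit b'
  · obtain ⟨k, w, hw⟩ := IsLocalization.Away.surj b' z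
    obtain ⟨n, rfl⟩ := D.toW_surjective w
    exact ⟨k, n, hw⟩
  · obtain ⟨k, hk⟩ := IsLocalization.Away.exists_of_eq b' hxy
    have hk' : D.toW (tElt D b ^ k * x) = D.toW (tElt D b ^ k * y) := by
      rw [map_mul, map_mul, map_pow]
      exact hk
    refine ⟨k + 1, ?_⟩
    rw [pow_succ', mul_assoc, mul_assoc]
    have h1 := D.eq_of_toW_eq hk'
    calc tElt D b * (tElt D b ^ k * x) = tElt D b * (D.e * (tElt D b ^ k * x)) := by
          rw [← mul_assoc (tElt D b) D.e, mul_comm (tElt D b) D.e, e_mul_tElt]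
      _ = tElt D b * (D.e * (tElt D b ^ k * y)) := by rw [h1]
      _ = tElt D b * (tElt D b ^ k * y) := by
          rw [← mul_assoc (tElt D b) D.e, mul_comm (tElt D b) D.e, e_mul_tElt]

/-- The chart of a product neighbourhood. -/
noncomputable def chart : Chart (ULift.{u} (Equiv.Perm (Fin d))) Γ(SymProd.fibPow f d, Q.toOpens) D.N where
  H := colourGrp D
  F := Γ(SymProd.fibPow f d, (SymProd.fibPow f d).basicOpen a)
  α := ((SymProd.fibPow f d).presheaf.map (homOfLE ((SymProd.fibPow f d).basicOpen_le a)).op).hom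
  ε := ((SymProd.fibPow f d).presheaf.map (homOfLE (basicOpen_le_W D Q a ha b hab)).op).hom.comp
    D.toW.toRingHom
  a := a
  t := tElt D b
  a_fix := ha
  t_fix _ hg := tElt_fix D b hg
  t_orth _ hg := tElt_orth D b hg
  locA := hQ.isLocalization_basicOpen a
  locN := locN D Q hQ a ha b hab
  equiv g hg := by
    have hle : (SymProd.fibPow f d).basicOpen a ≤
        SymProd.permHom f d g.down⁻¹ ⁻¹ᵁ (SymProd.fibPow f d).basicOpen a := fun x hx => by
      have := hx
      rw [← ha _ hg, Q.basicOpen_smul _ _ _ ((SymProd.fibPow f d).basicOpen_le a hx)] at this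
      exact this
    refine ⟨((SymProd.permHom f d g.down⁻¹).appLE _ _ hle).hom, fun x => ?_, fun n => ?_⟩
    · rw [StableOpen.smul_def]
      show (SymProd.permHom f d g.down⁻¹).appLE _ _ hle
        ((SymProd.fibPow f d).presheaf.map (homOfLE ((SymProd.fibPow f d).basicOpen_le a)).op x) =
        (SymProd.fibPow f d).presheaf.map (homOfLE ((SymProd.fibPow f d).basicOpen_le a)).op
          ((SymProd.permHom f d g.down⁻¹).appLE Q.toOpens Q.toOpens (Q.le _) x)
      rw [← CommRingCat.comp_apply, ← CommRingCat.comp_apply, Scheme.Hom.map_appLE, Scheme.Hom.appLE_map]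
    · show _ = ((SymProd.fibPow f d).presheaf.map _) (D.toW (g • n))
      rw [toW_smul D hg]
      show (SymProd.permHom f d g.down⁻¹).appLE _ _ hle
        ((SymProd.fibPow f d).presheaf.map _ (D.toW n)) =
          (SymProd.fibPow f d).presheaf.map _
            ((SymProd.permHom f d g.down⁻¹).appLE D.W D.W (W_le_perm D hg) (D.toW n))
      rw [← CommRingCat.comp_apply, ← CommRingCat.comp_apply, Scheme.Hom.map_appLE, Scheme.Hom.appLE_map]

end Groth.Agent.Lib.SymLoc53.Geom
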