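import Groth.Agent.Lib.SymLoc53.Local
import Groth.Agent.Lib.SchQuot.Props

/-!
# Comparison of symmetric products
-/

set_option autoImplicit false
set_option backward.isDefEq.respectTransparency false

universe u

open CategoryTheory CategoryTheory.Limits AlgebraicGeometry TopologicalSpace Opposite
open scoped TensorProduct

namespace Groth.Agent.Lib.SymLoc53.Geom

theorem evaluation_appLE {A B : Scheme.{u}} (φ : A ⟶ B) (W : B.Opens) (O : A.Opens) (le : O ≤ φ ⁻¹ᵁ W)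
    (x : A) (hx : x ∈ O) (s : Γ(B, W)) :
    A.evaluation O x hx (φ.appLE W O le s) = φ.residueFieldMap x (B.evaluation W (φ x) (le hx) s) := by
  rw [Scheme.evaluation_naturality_apply]
  show (φ.appLE W O le ≫ A.evaluation O x hx) s = (φ.app W ≫ A.evaluation (φ ⁻¹ᵁ W) x (le hx)) s
  rw [Scheme.Hom.appLE, Category.assoc]
  congr 3
  rw [← Scheme.germ_residue, ← Scheme.germ_residue, TopCat.Presheaf.germ_res_assoc]

theorem appLE_injective {A B : Scheme.{u}} {φ : A ⟶ B} (h : ∀ W : B.Opens, Function.Injective (φ.app W).hom)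
    (W : B.Opens) (O : A.Opens) (e : O = φ ⁻¹ᵁ W) : Function.Injective (φ.appLE W O e.le) := by
  subst e
  rw [← Scheme.Hom.app_eq_appLE]
  exact h W

theorem appLE_isIntegral {A B : Scheme.{u}} {φ : A ⟶ B} [IsIntegralHom φ] (W : B.Opens)
    (hW : IsAffineOpen W) (O : A.Opens) (e : O = φ ⁻¹ᵁ W) : (φ.appLE W O e.le).hom.IsIntegral := by
  subst e
  rw [← Scheme.Hom.app_eq_appLE]
  exact φ.isIntegral_app W hW

variable {X S X' S' Y Y' T : Scheme.{u}} {f : X ⟶ S} {f' : X' ⟶ S'} {e : X' ⟶ X} {g₀ : S' ⟶ S} {d : ℕ}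
  (hw : e ≫ f = f' ≫ g₀) {q : SymProd.fibPow f d ⟶ Y} {g : Y ⟶ S} (hq : SymProd.IsSymProd f d q g)
  {r : SymProd.fibPow f' d ⟶ Y'} (hr : SGA1.IsQuot (SymProd.permActU f' d) r)
  (m : Y' ⟶ T) (π : T ⟶ Y) (σT : T ⟶ S')
  (hc₁ : r ≫ m ≫ π = powMap d hw ≫ q) (hc₂ : r ≫ m ≫ σT = WidePullback.base (fun _ : Fin d => f'))

/-- Opens of the target on which the comparison is computed. -/
structure Nice (f : X ⟶ S) (f' : X' ⟶ S') (e : X' ⟶ X) (g₀ : S' ⟶ S) (g : Y ⟶ S) (π : T ⟶ Y)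
    (σT : T ⟶ S') (V : S.Opens) (U : Y.Opens) (V' : S'.Opens) : Prop where
  hV : IsAffineOpen V
  hU : IsAffineOpen U
  hUV : U ≤ g ⁻¹ᵁ V
  hV' : IsAffineOpen V'
  hV'V : V' ≤ g₀ ⁻¹ᵁ V
  hΩ : IsAffineOpen (π ⁻¹ᵁ U ⊓ σT ⁻¹ᵁ V')
  good : Good f f' e V V'

include hc₁ hc₂ in
theorem upOpen_eq (U : Y.Opens) (V' : S'.Opens) :
    (upOpen hw hq U V').toOpens = (r ≫ m) ⁻¹ᵁ (π ⁻¹ᵁ U ⊓ σT ⁻¹ᵁ V') := by
  have h₁ : ∀ x, π (m (r x)) = q (powMap d hw x) := fun x => by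
    rw [← Scheme.Hom.comp_apply, ← Scheme.Hom.comp_apply, ← Scheme.Hom.comp_apply, hc₁]
  have h₂ : ∀ x, σT (m (r x)) = WidePullback.base (fun _ : Fin d => f') x := fun x => by
    rw [← Scheme.Hom.comp_apply, ← Scheme.Hom.comp_apply, hc₂]
  ext x
  show (q (powMap d hw x) ∈ U ∧ WidePullback.base (fun _ : Fin d => f') x ∈ V') ↔
    (π ((r ≫ m) x) ∈ U ∧ σT ((r ≫ m) x) ∈ V')
  rw [Scheme.Hom.comp_apply, h₁, h₂]

variable {V : S.Opens} {U : Y.Opens} {V' : S'.Opens} (hN : Nice f f' e g₀ g π σT V U V')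

include hw hq hr hc₁ hc₂ hN in
theorem local_data [IsIntegralHom (r ≫ m)] :
    ∃ (hQ' : IsAffineOpen (upOpen hw hq U V').toOpens)
      (Rg : Subring Γ(SymProd.fibPow f' d, (upOpen hw hq U V').toOpens)),
      Rg = ((r ≫ m).appLE (π ⁻¹ᵁ U ⊓ σT ⁻¹ᵁ V') (upOpen hw hq U V').toOpens
        (upOpen_eq hw hq m π σT hc₁ hc₂ U V').le).hom.range ∧
      (∀ c, upScal hw hq U V' c ∈ Rg) ∧
      (∀ b, (∀ h : ULift.{u} (Equiv.Perm (Fin d)), h • b = b) → upMap hw hq U V' b ∈ Rg) ∧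
      ∀ s : Γ(Y', m ⁻¹ᵁ (π ⁻¹ᵁ U ⊓ σT ⁻¹ᵁ V')), ∀ h : ULift.{u} (Equiv.Perm (Fin d)),
        h • r.appLE _ (upOpen hw hq U V').toOpens
          ((upOpen_eq hw hq m π σT hc₁ hc₂ U V').le.trans (Scheme.Hom.comp_preimage r m _).le) s =
          r.appLE _ (upOpen hw hq U V').toOpens
            ((upOpen_eq hw hq m π σT hc₁ hc₂ U V').le.trans (Scheme.Hom.comp_preimage r m _).le) s := by
  refine ⟨?_, _, rfl, fun c => ?_, fun b hb => ?_, fun s h => ?_⟩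
  · rw [upOpen_eq hw hq m π σT hc₁ hc₂]
    exact hN.hΩ.preimage (r ≫ m)
  · refine ⟨σT.appLE V' _ inf_le_right c, ?_⟩
    show (r ≫ m).appLE _ _ _ (σT.appLE V' _ inf_le_right c) =
      (WidePullback.base (fun _ : Fin d => f')).appLE V' _ inf_le_right c
    rw [← CommRingCat.comp_apply, Scheme.Hom.appLE_comp_appLE]
    exact congr($(Product.appLE_congr_hom ((Category.assoc r m σT).trans hc₂) _ _ _ _) c)
  · obtain ⟨c, hc⟩ := (hq.isQuot.range_iff U b).mpr fun k => by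
      have h := hb k⁻¹
      rw [StableOpen.smul_def] at h
      have hk : (k⁻¹).down⁻¹ = k.down := inv_inv k.down
      refine Eq.trans ?_ h
      exact congr($(Product.appLE_congr_hom
        (show (SymProd.permActU f d k).hom = SymProd.permHom f d (k⁻¹).down⁻¹ by rw [hk]; rfl)
        _ _ _ _) b)
    refine ⟨π.appLE U _ inf_le_left c, ?_⟩
    show (r ≫ m).appLE _ _ _ (π.appLE U _ inf_le_left c) =
      (powMap d hw).appLE (stableOf hq U).toOpens _ inf_le_left b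
    rw [show b = q.appLE U (stableOf hq U).toOpens le_rfl c by
      rw [← hc]; exact congr($(q.app_eq_appLE) c)]
    rw [← CommRingCat.comp_apply, ← CommRingCat.comp_apply, Scheme.Hom.appLE_comp_appLE,
      Scheme.Hom.appLE_comp_appLE]
    exact congr($(Product.appLE_congr_hom ((Category.assoc r m π).trans hc₁) _ _ _ _) c)
  · rw [StableOpen.smul_def, ← CommRingCat.comp_apply, Scheme.Hom.appLE_comp_appLE]
    exact congr($(Product.appLE_congr_hom (hr.inv ⟨h.down⁻¹⟩) _ _ _ _) s)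

include hw hq hr hc₁ hc₂ hN in
theorem app_surjective [IsIntegralHom (r ≫ m)] [Flat f'] :
    Function.Surjective (m.app (π ⁻¹ᵁ U ⊓ σT ⁻¹ᵁ V')) := by
  obtain ⟨hQ', Rg, hRg, hscal, hinv, hfix⟩ := local_data hw hq hr m π σT hc₁ hc₂ hN
  intro s
  let le₁ := (upOpen_eq hw hq m π σT hc₁ hc₂ U V').le
  let ρ := ((r ≫ m).appLE (π ⁻¹ᵁ U ⊓ σT ⁻¹ᵁ V') (upOpen hw hq U V').toOpens le₁).hom
  let z := r.appLE (m ⁻¹ᵁ (π ⁻¹ᵁ U ⊓ σT ⁻¹ᵁ V')) (upOpen hw hq U V').toOpens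
    (le₁.trans (Scheme.Hom.comp_preimage r m _).le) s
  have hρ : ρ.IsIntegral := appLE_isIntegral _ hN.hΩ _ (upOpen_eq hw hq m π σT hc₁ hc₂ U V')
  let J : Ideal Γ(T, π ⁻¹ᵁ U ⊓ σT ⁻¹ᵁ V') :=
    { carrier := {c | ρ c * z ∈ ρ.range}
      zero_mem' := by
        show ρ 0 * z ∈ ρ.range
        rw [map_zero, zero_mul]; exact zero_mem _
      add_mem' := fun {a b} ha hb => by
        show ρ (a + b) * z ∈ ρ.range
        rw [map_add, add_mul]; exact add_mem ha hb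
      smul_mem' := fun c a ha => by
        show ρ (c * a) * z ∈ ρ.range
        rw [map_mul, mul_assoc]; exact mul_mem ⟨c, rfl⟩ ha }
  have hJ : J = ⊤ := by
    by_contra hne
    obtain ⟨M, hM, hJM⟩ := Ideal.exists_le_maximal J hne
    letI := ρ.toAlgebra
    haveI : Algebra.IsIntegral Γ(T, π ⁻¹ᵁ U ⊓ σT ⁻¹ᵁ V') Γ(SymProd.fibPow f' d, (upOpen hw hq U V').toOpens) :=
      ⟨hρ⟩
    obtain ⟨p, -, hp, hpc⟩ := Ideal.exists_ideal_over_prime_of_isIntegral M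
      (⊥ : Ideal Γ(SymProd.fibPow f' d, (upOpen hw hq U V').toOpens)) (fun c hc => hJM (by
        show ρ c * z ∈ ρ.range
        rw [show ρ c = 0 from hc, zero_mul]; exact zero_mem _))
    have hx : hQ'.fromSpec ⟨p, hp⟩ ∈ (upOpen hw hq U V').toOpens :=
      hQ'.range_fromSpec.subset ⟨_, rfl⟩
    obtain ⟨w, hwR, hxw, hwz⟩ := exists_mul_mem hw hq hN.hV hN.hU hN.hUV hN.hV' hN.hV'V hQ' hN.good
      Rg hscal hinv (hfix s) hx
    rw [hRg] at hwR hwz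
    obtain ⟨c, rfl⟩ := hwR
    have hp' : (⟨p, hp⟩ : PrimeSpectrum _) ∈ PrimeSpectrum.basicOpen (ρ c) := by
      rw [← hQ'.fromSpec_preimage_basicOpen]
      exact hxw
    refine hp' ?_
    have hcM : c ∈ M := hJM (show ρ c * z ∈ ρ.range from hwz)
    rw [← hpc] at hcM
    exact hcM
  obtain ⟨c, hc⟩ : ρ 1 * z ∈ ρ.range := show (1 : Γ(T, _)) ∈ J by rw [hJ]; trivial
  rw [map_one, one_mul] at hc
  refine ⟨c, appLE_injective hr.injective _ (upOpen hw hq U V').toOpens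
    ((upOpen_eq hw hq m π σT hc₁ hc₂ U V').trans (Scheme.Hom.comp_preimage r m _)) ?_⟩
  refine Eq.trans ?_ hc
  show r.appLE _ _ _ (m.app _ c) = (r ≫ m).appLE _ _ _ c
  rw [← CommRingCat.comp_apply, Scheme.Hom.app_eq_appLE, Scheme.Hom.appLE_comp_appLE]

include hw hq hr hc₁ hc₂ hN in
theorem evaluation_mem_range [IsIntegralHom (r ≫ m)] (x' : SymProd.fibPow f' d)
    (hx' : m (r x') ∈ π ⁻¹ᵁ U ⊓ σT ⁻¹ᵁ V') (s : Γ(Y', m ⁻¹ᵁ (π ⁻¹ᵁ U ⊓ σT ⁻¹ᵁ V'))) :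
    Y'.evaluation (m ⁻¹ᵁ (π ⁻¹ᵁ U ⊓ σT ⁻¹ᵁ V')) (r x') hx' s ∈
      Set.range (m.residueFieldMap (r x')) := by
  obtain ⟨hQ', Rg, rfl, hscal, hinv, hfix⟩ := local_data hw hq hr m π σT hc₁ hc₂ hN
  let le₁ := (upOpen_eq hw hq m π σT hc₁ hc₂ U V').le
  let le₂ := le₁.trans (Scheme.Hom.comp_preimage r m _).le
  have hxQ : x' ∈ (upOpen hw hq U V').toOpens := by
    rw [upOpen_eq hw hq m π σT hc₁ hc₂]
    show (r ≫ m) x' ∈ π ⁻¹ᵁ U ⊓ σT ⁻¹ᵁ V'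
    rw [Scheme.Hom.comp_apply]; exact hx'
  obtain ⟨_, ⟨c₁, rfl⟩, _, ⟨c₂, rfl⟩, h1, h2⟩ := exists_ev_eq hw hq hN.hV hN.hU hN.hUV hN.hV' hN.hV'V
    hQ' hN.good _ hscal hinv (hfix s) hxQ
  have key : ∀ c, (SymProd.fibPow f' d).evaluation _ x' hxQ ((r ≫ m).appLE _ _ le₁ c) =
      r.residueFieldMap x' (m.residueFieldMap (r x') (T.evaluation _ (m (r x')) hx' c)) := fun c => by
    rw [Scheme.evaluation_naturality_apply m (r x') hx', ← evaluation_appLE r _ _ le₂ x' hxQ]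
    refine congrArg _ ?_
    rw [← CommRingCat.comp_apply, Scheme.Hom.app_eq_appLE, Scheme.Hom.appLE_comp_appLE]
  rw [map_mul] at h2
  change (SymProd.fibPow f' d).evaluation _ x' hxQ ((r ≫ m).appLE _ _ le₁ c₁) ≠ 0 at h1
  change (SymProd.fibPow f' d).evaluation _ x' hxQ ((r ≫ m).appLE _ _ le₁ c₁) *
    (SymProd.fibPow f' d).evaluation _ x' hxQ (r.appLE _ _ le₂ s) =
      (SymProd.fibPow f' d).evaluation _ x' hxQ ((r ≫ m).appLE _ _ le₁ c₂) at h2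
  rw [key] at h1
  rw [key, key, evaluation_appLE r _ _ le₂ x' hxQ, ← map_mul] at h2
  have h3 := (r.residueFieldMap x').hom.injective h2
  refine ⟨T.evaluation _ (m (r x')) hx' c₂ / T.evaluation _ (m (r x')) hx' c₁, ?_⟩
  have hne : (m.residueFieldMap (r x')).hom (T.evaluation _ (m (r x')) hx' c₁) ≠ 0 := fun h0 => h1 (by
    rw [h0, map_zero])
  show (m.residueFieldMap (r x')).hom (_ / _) = _
  rw [map_div₀, div_eq_iff hne, mul_comm]
  exact h3.symm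

variable (hcover : ∀ t : T, ∃ (V : S.Opens) (U : Y.Opens) (V' : S'.Opens),
  Nice f f' e g₀ g π σT V U V' ∧ t ∈ π ⁻¹ᵁ U ⊓ σT ⁻¹ᵁ V')

include hw hq hr hc₁ hc₂ hcover in
theorem isIso_residueFieldMap [IsIntegralHom (r ≫ m)] (y' : Y') : IsIso (m.residueFieldMap y') := by
  obtain ⟨x', rfl⟩ := Groth.Agent.Lib.SchQuot.IsQuot.surjective hr y'
  obtain ⟨V, U, V', hN, ht⟩ := hcover (m (r x'))
  haveI : IsAffineHom m := SchQuot.Props.isAffineHom_of_comp hr m inferInstance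
  have hU' : IsAffineOpen (m ⁻¹ᵁ (π ⁻¹ᵁ U ⊓ σT ⁻¹ᵁ V')) := hN.hΩ.preimage m
  refine (ConcreteCategory.isIso_iff_bijective _).mpr ⟨RingHom.injective _, fun k => ?_⟩
  obtain ⟨ξ, rfl⟩ := IsLocalRing.residue_surjective k
  letI := TopCat.Presheaf.algebra_section_stalk Y'.presheaf
    (⟨r x', ht⟩ : (m ⁻¹ᵁ (π ⁻¹ᵁ U ⊓ σT ⁻¹ᵁ V') : Y'.Opens))
  haveI := hU'.isLocalization_stalk ⟨r x', ht⟩
  obtain ⟨⟨a, b⟩, hab⟩ := IsLocalization.surj
    (hU'.primeIdealOf ⟨r x', ht⟩).asIdeal.primeCompl ξ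
  have hb := IsLocalization.map_units (Y'.presheaf.stalk (r x')) b
  obtain ⟨ka, hka⟩ := evaluation_mem_range hw hq hr m π σT hc₁ hc₂ hN x' ht a
  obtain ⟨kb, hkb⟩ := evaluation_mem_range hw hq hr m π σT hc₁ hc₂ hN x' ht b.1
  refine ⟨ka / kb, ?_⟩
  show (m.residueFieldMap (r x')).hom (ka / kb) = _
  rw [map_div₀]
  have h := congrArg (Y'.residue (r x')) hab
  rw [map_mul] at h
  have hb0 : (Y'.evaluation _ (r x') ht b.1) ≠ 0 := (hb.map (Y'.residue (r x')).hom).ne_zero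
  show (m.residueFieldMap (r x')) ka / (m.residueFieldMap (r x')) kb = _
  rw [hka, hkb, div_eq_iff hb0]
  exact h.symm

include hw hq hr hc₁ hc₂ hcover in
theorem isClosedImmersion [IsIntegralHom (r ≫ m)] [Flat f'] : IsClosedImmersion m := by
  haveI : IsAffineHom m := SchQuot.Props.isAffineHom_of_comp hr m inferInstance
  choose V U V' hN ht using hcover
  refine IsZariskiLocalAtTarget.of_iSup_eq_top (P := @IsClosedImmersion)
    (fun t => π ⁻¹ᵁ U t ⊓ σT ⁻¹ᵁ V' t) (eq_top_iff.mpr fun t _ => Opens.mem_iSup.mpr ⟨t, ht t⟩) fun t => ?_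
  haveI : IsAffine (π ⁻¹ᵁ U t ⊓ σT ⁻¹ᵁ V' t).toScheme := (hN t).hΩ
  haveI : IsAffine (m ⁻¹ᵁ (π ⁻¹ᵁ U t ⊓ σT ⁻¹ᵁ V' t)).toScheme := (hN t).hΩ.preimage m
  refine IsClosedImmersion.of_surjective_of_isAffine _ ?_
  rw [morphismRestrict_appTop]
  have key : ∀ O : T.Opens, O = π ⁻¹ᵁ U t ⊓ σT ⁻¹ᵁ V' t → Function.Surjective (m.app O) := by
    rintro O rfl
    exact app_surjective hw hq hr m π σT hc₁ hc₂ (hN t)
  intro y
  obtain ⟨z, hz⟩ := (ConcreteCategory.bijective_of_isIso (C := CommRingCat)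
    (Y'.presheaf.map (eqToHom (image_morphismRestrict_preimage m (π ⁻¹ᵁ U t ⊓ σT ⁻¹ᵁ V' t) ⊤)).op)).2 y
  obtain ⟨x, hx⟩ := key _ (Scheme.Opens.ι_image_top _) z
  refine ⟨x, ?_⟩
  erw [CommRingCat.comp_apply, hx, hz]

end Groth.Agent.Lib.SymLoc53.Geom
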