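import Mathlib.RingTheory.Localization.Away.Basic
import Mathlib.GroupTheory.Coset.Basic
import Mathlib.Algebra.Ring.Action.Basic
import Mathlib.RingTheory.Flat.EquationalCriterion
import Mathlib.RingTheory.Ideal.Maximal

/-!
# Invariants of a finite group, locally through a chart with a smaller group

`A` and `N` are rings with actions of a finite group `G`; a chart is a ring `F` which is a
localisation of both, compatibly with the action of a subgroup `H`, and such that the translates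
of the localising element of `N` outside `H` are orthogonal to it. Up to powers of the localising
element, the invariants of `A` are then read off from the invariants of `N` through the trace
from `H` to `G`.
-/

set_option autoImplicit false

universe u

namespace Groth.Agent.Lib.SymLoc53

section Trace

variable {G : Type u} [Group G] [Finite G] (H : Subgroup G) {A : Type u} [CommRing A]
  [MulSemiringAction G A]

/-- The sum of the translates by the cosets of `H`. -/
noncomputable def trace (x : A) : A :=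
  letI := Fintype.ofFinite (G ⧸ H)
  ∑ c : G ⧸ H, c.out • x

theorem smul_out_eq {x : A} (hx : ∀ h ∈ H, h • x = x) (g : G) (c : G ⧸ H) :
    g • c.out • x = (g • c).out • x := by
  have h1 : ((g * c.out : G) : G ⧸ H) = g • c := by
    conv_rhs => rw [← QuotientGroup.out_eq' c]
    rfl
  obtain ⟨h, hh⟩ := QuotientGroup.mk_out_eq_mul H (g * c.out)
  rw [h1] at hh
  rw [hh, mul_smul, hx h h.2, mul_smul]

theorem smul_trace {x : A} (hx : ∀ h ∈ H, h • x = x) (g : G) : g • trace H x = trace H x := by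
  letI := Fintype.ofFinite (G ⧸ H)
  simp only [trace, Finset.smul_sum]
  exact Fintype.sum_equiv (MulAction.toPerm g) _ _ fun c => smul_out_eq H hx g c

theorem trace_mul {b : A} (hb : ∀ g : G, g • b = b) (x : A) : trace H (b * x) = b * trace H x := by
  simp only [trace, smul_mul', hb, Finset.mul_sum]

theorem trace_sub_mem (S : AddSubgroup A) {x : A} (hx : ∀ h ∈ H, h • x = x)
    (hS : ∀ g : G, g ∉ H → g • x ∈ S) : trace H x - x ∈ S := by
  classical
  letI := Fintype.ofFinite (G ⧸ H)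
  have hone : ((1 : G) : G ⧸ H).out • x = x :=
    hx _ ((QuotientGroup.eq (s := H)).mp (QuotientGroup.out_eq' ((1 : G) : G ⧸ H)).symm |> fun h => by
      simpa using h)
  rw [trace, ← Finset.add_sum_erase _ _ (Finset.mem_univ ((1 : G) : G ⧸ H)), hone, add_sub_cancel_left]
  refine S.sum_mem fun c hc => hS _ fun h => (Finset.mem_erase.mp hc).1 ?_
  rw [← QuotientGroup.out_eq' c]
  exact QuotientGroup.eq.mpr (by simpa using H.inv_mem h)

end Trace

variable (G : Type u) [Group G] [Finite G] (A N : Type u) [CommRing A] [CommRing N]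
  [MulSemiringAction G A] [MulSemiringAction G N]

/-- A chart between two rings with group actions. -/
structure Chart where
  /-- The subgroup. -/
  H : Subgroup G
  /-- The common localisation. -/
  F : Type u
  [commRing : CommRing F]
  /-- The map from `A`. -/
  α : A →+* F
  /-- The map from `N`. -/
  ε : N →+* F
  /-- The localising element of `A`. -/
  a : A
  /-- The localising element of `N`. -/
  t : N
  a_fix : ∀ h ∈ H, h • a = a
  t_fix : ∀ h ∈ H, h • t = t
  t_orth : ∀ g : G, g ∉ H → t * g • t = 0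
  locA : @IsLocalization.Away A _ a F commRing.toCommSemiring α.toAlgebra
  locN : @IsLocalization.Away N _ t F commRing.toCommSemiring ε.toAlgebra
  equiv : ∀ h ∈ H, ∃ τ : F →+* F, (∀ x, τ (α x) = α (h • x)) ∧ ∀ n, τ (ε n) = ε (h • n)

attribute [instance] Chart.commRing

namespace Chart

variable {G A N} (C : Chart G A N)

theorem isUnit_α : IsUnit (C.α C.a) := by
  letI := C.α.toAlgebra
  haveI := C.locA
  exact IsLocalization.Away.algebraMap_isUnit (S := C.F) C.a

theorem isUnit_ε : IsUnit (C.ε C.t) := by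
  letI := C.ε.toAlgebra
  haveI := C.locN
  exact IsLocalization.Away.algebraMap_isUnit (S := C.F) C.t

theorem surjA (f : C.F) : ∃ (j : ℕ) (x : A), f * C.α C.a ^ j = C.α x := by
  letI := C.α.toAlgebra
  haveI := C.locA
  exact IsLocalization.Away.surj C.a f

theorem surjN (f : C.F) : ∃ (j : ℕ) (n : N), f * C.ε C.t ^ j = C.ε n := by
  letI := C.ε.toAlgebra
  haveI := C.locN
  exact IsLocalization.Away.surj C.t f

theorem eqA {x y : A} (h : C.α x = C.α y) : ∃ m : ℕ, C.a ^ m * x = C.a ^ m * y := by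
  letI := C.α.toAlgebra
  haveI := C.locA
  exact IsLocalization.Away.exists_of_eq C.a h

theorem eqN {x y : N} (h : C.ε x = C.ε y) : ∃ m : ℕ, C.t ^ m * x = C.t ^ m * y := by
  letI := C.ε.toAlgebra
  haveI := C.locN
  exact IsLocalization.Away.exists_of_eq C.t h

theorem ε_translate {g : G} (hg : g ∉ C.H) : C.ε (g • C.t) = 0 := by
  have h := congrArg C.ε (C.t_orth g hg)
  rw [map_mul, map_zero] at h
  exact C.isUnit_ε.mul_right_eq_zero.mp h

/-- Traces of elements of `N` supported at `t` are unchanged in the chart. -/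
theorem ε_trace {y : N} (hy : ∀ h ∈ C.H, h • y = y) (hv : ∀ g : G, g ∉ C.H → C.ε (g • y) = 0) :
    C.ε (trace C.H y) = C.ε y := by
  have h := trace_sub_mem C.H (RingHom.ker C.ε).toAddSubgroup hy fun g hg => hv g hg
  change C.ε (_ - _) = 0 at h
  rwa [map_sub, sub_eq_zero] at h

/-- An invariant of `A` becomes, after multiplying by a power of `t`, an invariant of `N`. -/
theorem toN {z : A} (hz : ∀ g : G, g • z = z) :
    ∃ (K : ℕ) (n : N), (∀ g : G, g • n = n) ∧ C.α z * C.ε C.t ^ K = C.ε n := by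
  classical
  obtain ⟨j, num, hnum⟩ := C.surjN (C.α z)
  have hev : ∀ h : C.H, ∃ m : ℕ, C.t ^ m * (h.1 • num) = C.t ^ m * num := fun h => C.eqN (by
    obtain ⟨τ, hτA, hτN⟩ := C.equiv h.1 h.2
    rw [← hτN, ← hnum, map_mul, map_pow, hτA, hτN, hz, C.t_fix _ h.2])
  choose m hm using hev
  cases nonempty_fintype C.H
  let M : ℕ := Finset.univ.sup m
  have hfix : ∀ h ∈ C.H, h • (C.t ^ (M + 1) * num) = C.t ^ (M + 1) * num := fun h hh => by
    obtain ⟨e, he⟩ : ∃ e, M + 1 = e + m ⟨h, hh⟩ :=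
      ⟨M + 1 - m ⟨h, hh⟩, by have := Finset.le_sup (f := m) (Finset.mem_univ ⟨h, hh⟩); omega⟩
    rw [smul_mul', smul_pow', C.t_fix h hh, he, pow_add, mul_assoc, hm ⟨h, hh⟩, ← mul_assoc]
  refine ⟨j + (M + 1), trace C.H (C.t ^ (M + 1) * num), smul_trace C.H hfix, ?_⟩
  rw [C.ε_trace hfix fun g hg => by
    rw [smul_mul', smul_pow', map_mul, map_pow, C.ε_translate hg, zero_pow (by omega), zero_mul],
    pow_add, ← mul_assoc, hnum, map_mul, map_pow, mul_comm]

/-- An `H`-invariant of `N` becomes, after multiplying by a power of `a`, an `H`-invariant of `A`. -/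
theorem toA {n : N} (hn : ∀ h ∈ C.H, h • n = n) :
    ∃ (k : ℕ) (c : A), (∀ h ∈ C.H, h • c = c) ∧ C.ε n * C.α C.a ^ k = C.α c := by
  classical
  obtain ⟨j, x, hx⟩ := C.surjA (C.ε n)
  have hev : ∀ h : C.H, ∃ m : ℕ, C.a ^ m * (h.1 • x) = C.a ^ m * x := fun h => C.eqA (by
    obtain ⟨τ, hτA, hτN⟩ := C.equiv h.1 h.2
    rw [← hτA, ← hx, map_mul, map_pow, hτN, hτA, hn _ h.2, C.a_fix _ h.2])
  choose m hm using hev
  cases nonempty_fintype C.H
  let M : ℕ := Finset.univ.sup m
  refine ⟨j + M, C.a ^ M * x, fun h hh => ?_, ?_⟩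
  · obtain ⟨e, he⟩ : ∃ e, M = e + m ⟨h, hh⟩ :=
      ⟨M - m ⟨h, hh⟩, by have := Finset.le_sup (f := m) (Finset.mem_univ ⟨h, hh⟩); omega⟩
    rw [smul_mul', smul_pow', C.a_fix h hh, he, pow_add, mul_assoc, hm ⟨h, hh⟩, ← mul_assoc]
  · rw [pow_add, ← mul_assoc, hx, map_mul, map_pow, mul_comm]

/-- Several invariants of `N` come from `A` with one exponent. -/
theorem toA_many {ι : Type*} [Finite ι] {n : ι → N} (hn : ∀ i, ∀ h ∈ C.H, h • n i = n i) :
    ∃ (k : ℕ) (c : ι → A), (∀ i, ∀ h ∈ C.H, h • c i = c i) ∧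
      ∀ i, C.ε (n i) * C.α C.a ^ k = C.α (c i) := by
  classical
  cases nonempty_fintype ι
  choose k c hc hk using fun i => C.toA (hn i)
  let M : ℕ := Finset.univ.sup k
  refine ⟨M, fun i => C.a ^ (M - k i) * c i, fun i h hh => ?_, fun i => ?_⟩
  · rw [smul_mul', smul_pow', C.a_fix h hh, hc i h hh]
  · rw [map_mul, map_pow, ← hk, mul_comm (C.α C.a ^ (M - k i)), mul_assoc, ← pow_add,
      Nat.add_sub_cancel' (Finset.le_sup (Finset.mem_univ i))]

/-- A power of `t` is, up to a power of `a`, an element of `A`. -/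
theorem exists_unit (K : ℕ) : ∃ (j : ℕ) (x : A), (∀ h ∈ C.H, h • x = x) ∧
    C.ε C.t ^ K * C.α C.a ^ j = C.α x ∧ IsUnit (C.α x) := by
  obtain ⟨j, x, hx, hjx⟩ := C.toA (n := C.t ^ K) fun h hh => by rw [smul_pow', C.t_fix h hh]
  rw [map_pow] at hjx
  exact ⟨j, x, hx, hjx, hjx ▸ (C.isUnit_ε.pow K).mul (C.isUnit_α.pow j)⟩

end Chart

variable {G A N}

/-- Two charts over a map of pairs. -/
structure ChartMap {A' N' : Type u} [CommRing A'] [CommRing N'] [MulSemiringAction G A']
    [MulSemiringAction G N'] (C : Chart G A N) (C' : Chart G A' N') (μA : A →+* A') (μN : N →+* N') :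
    Prop where
  map_a : μA C.a = C'.a
  map_equiv : ∀ (g : G) (x : A), μA (g • x) = g • μA x
  exists_map : ∃ φ : C.F →+* C'.F, (∀ x, φ (C.α x) = C'.α (μA x)) ∧ ∀ n, φ (C.ε n) = C'.ε (μN n)
  map_t : μN C.t = C'.t

section BaseChange

variable {A' N' R' : Type u} [CommRing A'] [CommRing N'] [CommRing R'] [MulSemiringAction G A']
  [MulSemiringAction G N'] {C : Chart G A N} {C' : Chart G A' N'} {μA : A →+* A'} {μN : N →+* N'}
  (hμ : ChartMap C C' μA μN) (ρA : R' →+* A') (ρN : R' →+* N')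
  (hρ : ∀ r, C'.α (ρA r) = C'.ε (ρN r)) (hρfix : ∀ (g : G) r, g • ρA r = ρA r)

/-- The subring generated by the scalars and the images of invariants. -/
def genSubring (μA : A →+* A') (ρA : R' →+* A') : Subring A' :=
  Subring.closure (Set.range ρA ∪ μA '' {b | ∀ g : G, g • b = b})

theorem ρA_mem (r : R') : ρA r ∈ genSubring (G := G) μA ρA :=
  Subring.subset_closure (Or.inl ⟨r, rfl⟩)

theorem μA_mem {b : A} (hb : ∀ g : G, g • b = b) : μA b ∈ genSubring (G := G) μA ρA :=
  Subring.subset_closure (Or.inr ⟨b, hb, rfl⟩)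

include hμ in
theorem map_trace (x : A) : μA (trace C.H x) = trace C.H (μA x) := by
  simp only [trace, map_sum, hμ.map_equiv]

include hμ hρ hρfix in
/-- If the invariants of `N'` are generated by those of `N`, then, up to powers, so are those of `A'`. -/
theorem exists_trace_mul_mem
    (hgen : ∀ n : N', (∀ g : G, g • n = n) → ∃ (l : ℕ) (r : Fin l → R') (m : Fin l → N),
      (∀ i, ∀ g : G, g • m i = m i) ∧ n = ∑ i, ρN (r i) * μN (m i))
    {z : A'} (hz : ∀ g : G, g • z = z) :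
    ∃ w : A, (∀ h ∈ C.H, h • w = w) ∧ IsUnit (C.α w) ∧
      μA (trace C.H (C.a * w)) * z ∈ genSubring (G := G) μA ρA := by
  obtain ⟨φ, hφA, hφN⟩ := hμ.exists_map
  obtain ⟨K, n, hn, hKn⟩ := C'.toN hz
  obtain ⟨l, r, m, hm, hnm⟩ := hgen n hn
  obtain ⟨k, c, hc, hck⟩ := C.toA_many (n := m) fun i h _ => hm i h
  obtain ⟨j, x, hxfix, hjx, hxu⟩ := C.exists_unit K
  have hx' : C'.α (μA x) = C'.ε C'.t ^ K * C'.α C'.a ^ j := by
    rw [← hφA, ← hjx, map_mul, map_pow, map_pow, hφA, hφN, hμ.map_t, hμ.map_a]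
  have hα : C'.α (μA x * C'.a ^ k * z) = C'.α (C'.a ^ j * ∑ i, ρA (r i) * μA (c i)) := by
    rw [map_mul, map_mul, hx', map_mul, map_pow, map_pow, map_sum,
      show C'.ε C'.t ^ K * C'.α C'.a ^ j * C'.α C'.a ^ k * C'.α z =
        C'.α C'.a ^ j * ((C'.α z * C'.ε C'.t ^ K) * C'.α C'.a ^ k) by ring,
      hKn, hnm, map_sum, Finset.sum_mul]
    refine congrArg (_ * ·) (Finset.sum_congr rfl fun i _ => ?_)
    rw [map_mul, map_mul, hρ, mul_assoc, ← hφA (c i), ← hck, map_mul φ, map_pow, hφN, hφA, hμ.map_a]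
  obtain ⟨m₀, hm₀⟩ := C'.eqA hα
  refine ⟨C.a ^ m₀ * (x * C.a ^ k), fun h hh => ?_, ?_, ?_⟩
  · rw [smul_mul', smul_mul', smul_pow', smul_pow', C.a_fix h hh, hxfix h hh]
  · rw [map_mul, map_mul, map_pow, map_pow]
    exact (C.isUnit_α.pow _).mul (hxu.mul (C.isUnit_α.pow _))
  have key : μA (trace C.H (C.a * (C.a ^ m₀ * (x * C.a ^ k)))) * z =
      ∑ i, ρA (r i) * μA (trace C.H (C.a ^ (m₀ + 1 + j) * c i)) := by
    have hm₁ : μA (C.a * (C.a ^ m₀ * (x * C.a ^ k))) * z =
        ∑ i, ρA (r i) * μA (C.a ^ (m₀ + 1 + j) * c i) := by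
      simp only [map_mul, map_pow, hμ.map_a]
      rw [show C'.a * (C'.a ^ m₀ * (μA x * C'.a ^ k)) * z =
        C'.a * (C'.a ^ m₀ * (μA x * C'.a ^ k * z)) by ring, hm₀, Finset.mul_sum, Finset.mul_sum,
        Finset.mul_sum]
      refine Finset.sum_congr rfl fun i _ => ?_
      ring
    rw [map_trace hμ, mul_comm, ← trace_mul C.H hz, mul_comm z, hm₁]
    simp only [map_trace hμ]
    unfold trace
    simp only [Finset.smul_sum, smul_mul', hρfix, Finset.mul_sum]
    exact Finset.sum_comm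
  rw [key]
  refine sum_mem fun i _ => mul_mem (ρA_mem ρA _) (μA_mem ρA (smul_trace C.H fun h hh => ?_))
  rw [smul_mul', smul_pow', C.a_fix h hh, hc i h hh]

include hμ hρ in
/-- If, at a point, the invariants of `N'` are fractions of invariants of `N`, so are those of `A'`. -/
theorem exists_fraction {L : Type u} [Field L] (π : A' →+* L) (ha : π (μA C.a) ≠ 0)
    (hvan : ∀ g : G, g ∉ C.H → π (μA (g • C.a)) = 0)
    (hres : ∀ χ : N' →+* L, ∀ n : N', (∀ g : G, g • n = n) →
      ∃ r₀ : R', χ (ρN r₀) ≠ 0 ∧ ∃ (l : ℕ) (r : Fin l → R') (m : Fin l → N),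
        (∀ i, ∀ g : G, g • m i = m i) ∧ χ (ρN r₀ * n) = χ (∑ i, ρN (r i) * μN (m i)))
    {z : A'} (hz : ∀ g : G, g • z = z) :
    ∃ b₁ ∈ genSubring (G := G) μA ρA, ∃ b₂ ∈ genSubring (G := G) μA ρA,
      π b₁ ≠ 0 ∧ π (b₁ * z) = π b₂ := by
  obtain ⟨φ, hφA, hφN⟩ := hμ.exists_map
  obtain ⟨K, n, hn, hKn⟩ := C'.toN hz
  letI := C'.α.toAlgebra
  haveI := C'.locA
  have hu : IsUnit (π C'.a) := (hμ.map_a ▸ ha : π C'.a ≠ 0).isUnit
  let ψ : C'.F →+* L := IsLocalization.Away.lift C'.a hu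
  have hψ : ∀ x, ψ (C'.α x) = π x := IsLocalization.Away.lift_eq (S := C'.F) C'.a hu
  obtain ⟨r₀, hr₀, l, r, m, hm, hnm⟩ := hres (ψ.comp C'.ε) n hn
  obtain ⟨k, c, hc, hck⟩ := C.toA_many (n := m) fun i h _ => hm i h
  obtain ⟨j, x, hxfix, hjx, hxu⟩ := C.exists_unit K
  have hρπ : ∀ r, (ψ.comp C'.ε) (ρN r) = π (ρA r) := fun r => by
    rw [RingHom.comp_apply, ← hρ, hψ]
  have hc' : ∀ i, π (μA (c i)) = ψ (C'.ε (μN (m i))) * π C'.a ^ k := fun i => by
    rw [← hψ, ← hφA (c i), ← hck]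
    simp only [map_mul, map_pow, hφN, hφA, hμ.map_a, hψ]
  have hx' : π (μA x) = ψ (C'.ε C'.t) ^ K * π C'.a ^ j := by
    rw [← hψ, ← hφA, ← hjx]
    simp only [map_mul, map_pow, hφN, hφA, hμ.map_t, hμ.map_a, hψ]
  have hx0 : π (μA x) ≠ 0 := by
    have h := ((hxu.map φ).map ψ)
    rw [hφA, hψ] at h
    exact h.ne_zero
  have htr : ∀ y : A, (∀ h ∈ C.H, h • y = y) → π (μA (trace C.H (C.a * y))) = π (μA C.a) * π (μA y) :=
    fun y hy => by
    have hk := trace_sub_mem C.H (RingHom.ker (π.comp μA)).toAddSubgroup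
      (x := C.a * y) (fun h hh => by rw [smul_mul', C.a_fix h hh, hy h hh]) fun g hg => by
        show π (μA _) = 0
        rw [smul_mul', map_mul, map_mul, hvan g hg, zero_mul]
    change π (μA (_ - _)) = 0 at hk
    rw [map_sub, map_sub, sub_eq_zero] at hk
    rw [hk, map_mul, map_mul]
  have hfx : ∀ h ∈ C.H, h • (x * C.a ^ k) = x * C.a ^ k := fun h hh => by
    rw [smul_mul', smul_pow', C.a_fix h hh, hxfix h hh]
  have hfc : ∀ i, ∀ h ∈ C.H, h • (C.a ^ j * c i) = C.a ^ j * c i := fun i h hh => by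
    rw [smul_mul', smul_pow', C.a_fix h hh, hc i h hh]
  refine ⟨ρA r₀ * μA (trace C.H (C.a * (x * C.a ^ k))),
    mul_mem (ρA_mem ρA _) (μA_mem ρA (smul_trace C.H fun h hh => ?_)),
    ∑ i, ρA (r i) * μA (trace C.H (C.a * (C.a ^ j * c i))),
    sum_mem fun i _ => mul_mem (ρA_mem ρA _) (μA_mem ρA (smul_trace C.H fun h hh => ?_)), ?_, ?_⟩
  · rw [smul_mul', C.a_fix h hh, hfx h hh]
  · rw [smul_mul', C.a_fix h hh, hfc i h hh]
  · rw [map_mul, htr _ hfx, map_mul μA, map_pow μA, map_mul π, map_pow π]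
    exact mul_ne_zero (by rw [← hρπ]; exact hr₀)
      (mul_ne_zero ha (mul_ne_zero hx0 (pow_ne_zero _ ha)))
  · have e : (ψ.comp C'.ε) n = π z * ψ (C'.ε C'.t) ^ K := by
      rw [RingHom.comp_apply, ← hKn, map_mul, map_pow, hψ]
    rw [map_mul (ψ.comp C'.ε), e, map_sum (ψ.comp C'.ε)] at hnm
    simp only [map_mul, htr _ hfx, map_pow, map_sum, htr _ (hfc _), hc', hx', hμ.map_a]
    rw [show π (ρA r₀) * (π C'.a * (ψ (C'.ε C'.t) ^ K * π C'.a ^ j * π C'.a ^ k)) * π z =
      π C'.a * π C'.a ^ j * π C'.a ^ k * (π (ρA r₀) * (π z * ψ (C'.ε C'.t) ^ K)) by ring,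
      ← hρπ, hnm, Finset.mul_sum]
    refine Finset.sum_congr rfl fun i _ => ?_
    rw [← hρπ, map_mul, RingHom.comp_apply ψ C'.ε (μN (m i))]
    ring

end BaseChange

section Flat

variable {R : Type u} [CommRing R] [Algebra R A] [Algebra R N] (C : Chart G A N)

/-- Relations among invariants of `A` become trivial after multiplying by traces at the chart. -/
theorem exists_trivialization (hR : ∀ r : R, C.α (algebraMap R A r) = C.ε (algebraMap R N r))
    (hfixR : ∀ (g : G) (r : R), g • algebraMap R A r = algebraMap R A r)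
    (hfixRN : ∀ (g : G) (r : R), g • algebraMap R N r = algebraMap R N r)
    (hflat : ∀ {l : ℕ} (f : Fin l → R) (n : Fin l → N), (∀ i, ∀ g : G, g • n i = n i) →
      ∑ i, f i • n i = 0 → ∃ (k : ℕ) (s : Fin l → Fin k → R) (y : Fin k → N),
        (∀ j, ∀ g : G, g • y j = y j) ∧ (∀ i, n i = ∑ j, s i j • y j) ∧ ∀ j, ∑ i, f i * s i j = 0)
    {l : ℕ} (f : Fin l → R) (b : Fin l → A) (hb : ∀ i, ∀ g : G, g • b i = b i)
    (hfb : ∑ i, f i • b i = 0) :
    ∃ w : A, (∀ h ∈ C.H, h • w = w) ∧ IsUnit (C.α w) ∧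
      ∃ (k : ℕ) (s : Fin l → Fin k → R) (y : Fin k → A), (∀ j, ∀ g : G, g • y j = y j) ∧
        (∀ i, trace C.H (C.a * w) * b i = ∑ j, s i j • y j) ∧ ∀ j, ∑ i, f i * s i j = 0 := by
  classical
  have hsA : ∀ (g : G) (r : R) (x : A), g • (r • x) = r • g • x := fun g r x => by
    rw [Algebra.smul_def, smul_mul', hfixR, ← Algebra.smul_def]
  have hsN : ∀ (g : G) (r : R) (x : N), g • (r • x) = r • g • x := fun g r x => by
    rw [Algebra.smul_def, smul_mul', hfixRN, ← Algebra.smul_def]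
  have hsαA : ∀ (r : R) (x : A), C.α (r • x) = C.ε (algebraMap R N r) * C.α x := fun r x => by
    rw [Algebra.smul_def, map_mul, hR]
  choose K₁ n₁ hn₁ hK₁ using fun i => C.toN (hb i)
  let K : ℕ := Finset.univ.sup K₁
  have htn : ∀ e : ℕ, ∃ n : N, (∀ g : G, g • n = n) ∧ C.ε n = C.ε C.t ^ e := fun e => by
    rcases e with _ | e
    · exact ⟨1, fun g => smul_one g, by rw [map_one, pow_zero]⟩
    have hfx : ∀ h ∈ C.H, h • C.t ^ (e + 1) = C.t ^ (e + 1) := fun h hh => by
      rw [smul_pow', C.t_fix h hh]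
    refine ⟨trace C.H (C.t ^ (e + 1)), smul_trace C.H hfx, ?_⟩
    rw [C.ε_trace hfx fun g hg => by
      rw [smul_pow', map_pow, C.ε_translate hg, zero_pow (by omega)], map_pow]
  choose tn htn₁ htn₂ using htn
  let n : Fin l → N := fun i => tn (K - K₁ i) * n₁ i
  have hn : ∀ i, ∀ g : G, g • n i = n i := fun i g => by
    rw [smul_mul', htn₁, hn₁]
  have hαn : ∀ i, C.α (b i) * C.ε C.t ^ K = C.ε (n i) := fun i => by
    rw [map_mul C.ε, htn₂, ← hK₁, mul_comm (C.ε C.t ^ (K - K₁ i)), mul_assoc, ← pow_add,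
      Nat.add_sub_cancel' (Finset.le_sup (Finset.mem_univ i))]
  have h0 : C.ε (∑ i, f i • n i) = 0 := by
    have h1 : C.α (∑ i, f i • b i) * C.ε C.t ^ K = 0 := by rw [hfb, map_zero, zero_mul]
    rw [← h1, map_sum, map_sum, Finset.sum_mul]
    refine Finset.sum_congr rfl fun i _ => ?_
    rw [hsαA, Algebra.smul_def, map_mul C.ε, ← hαn, mul_assoc]
  obtain ⟨m, hm⟩ := C.eqN (h0.trans (map_zero C.ε).symm)
  rw [mul_zero] at hm
  have hη : ∀ g : G, g • (∑ i, f i • n i) = ∑ i, f i • n i := fun g => by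
    simp only [Finset.smul_sum, hsN, hn]
  let τ : N := trace C.H (C.t ^ (m + 1))
  have hτH : ∀ h ∈ C.H, h • C.t ^ (m + 1) = C.t ^ (m + 1) := fun h hh => by
    rw [smul_pow', C.t_fix h hh]
  have hτfix : ∀ g : G, g • τ = τ := smul_trace C.H hτH
  have hτ0 : ∑ i, f i • (τ * n i) = 0 := by
    simp only [← mul_smul_comm, ← Finset.mul_sum]
    rw [mul_comm, ← trace_mul C.H hη, mul_comm, pow_succ, mul_right_comm, hm, zero_mul]
    simp [trace]
  have hετ : C.ε τ = C.ε C.t ^ (m + 1) := by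
    rw [C.ε_trace hτH fun g hg => by
      rw [smul_pow', map_pow, C.ε_translate hg, zero_pow (by omega)], map_pow]
  obtain ⟨k, s, y, hy, hys, hs⟩ := hflat f (fun i => τ * n i)
    (fun i g => by rw [smul_mul', hτfix, hn]) hτ0
  obtain ⟨k', c, hc, hck⟩ := C.toA_many (n := y) fun j h _ => hy j h
  obtain ⟨j₀, x, hxfix, hjx, hxu⟩ := C.exists_unit (m + 1 + K)
  have hα : ∀ i, C.α (C.a ^ k' * x * b i) = C.α (C.a ^ j₀ * ∑ j, s i j • c j) := fun i => by
    have h := congrArg C.ε (hys i)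
    rw [map_mul, hετ, ← hαn, map_sum] at h
    rw [map_mul, map_mul, map_mul, ← hjx, map_pow, map_pow,
      show C.α C.a ^ k' * (C.ε C.t ^ (m + 1 + K) * C.α C.a ^ j₀) * C.α (b i) =
        C.α C.a ^ j₀ * ((C.ε C.t ^ (m + 1) * (C.α (b i) * C.ε C.t ^ K)) * C.α C.a ^ k') by
        rw [pow_add]; ring, h, map_sum, Finset.sum_mul]
    refine congrArg (_ * ·) (Finset.sum_congr rfl fun j _ => ?_)
    rw [hsαA, ← hck, Algebra.smul_def, map_mul C.ε, mul_assoc]
  choose e he using fun i => C.eqA (hα i)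
  let E : ℕ := Finset.univ.sup e
  refine ⟨C.a ^ E * (C.a ^ k' * x), fun h hh => ?_, ?_, k, s,
    fun j => trace C.H (C.a ^ (E + 1 + j₀) * c j), fun j => ?_, fun i => ?_, hs⟩
  · rw [smul_mul', smul_mul', smul_pow', smul_pow', C.a_fix h hh, hxfix h hh]
  · rw [map_mul, map_mul, map_pow, map_pow]
    exact (C.isUnit_α.pow _).mul ((C.isUnit_α.pow _).mul hxu)
  · exact smul_trace C.H fun h hh => by rw [smul_mul', smul_pow', C.a_fix h hh, hc j h hh]
  · obtain ⟨d, hd⟩ : ∃ d, E = d + e i :=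
      ⟨E - e i, by have := Finset.le_sup (f := e) (Finset.mem_univ i); omega⟩
    have h2 : C.a * (C.a ^ E * (C.a ^ k' * x)) * b i = ∑ j, s i j • (C.a ^ (E + 1 + j₀) * c j) := by
      rw [show C.a * (C.a ^ E * (C.a ^ k' * x)) * b i =
        C.a ^ (d + 1) * (C.a ^ e i * (C.a ^ k' * x * b i)) by rw [hd]; ring, he i,
        Finset.mul_sum, Finset.mul_sum, Finset.mul_sum]
      refine Finset.sum_congr rfl fun j _ => ?_
      rw [mul_smul_comm, mul_smul_comm, mul_smul_comm, ← mul_assoc, ← mul_assoc, ← pow_add, ← pow_add,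
        hd]
      congr 3
      omega
    rw [mul_comm, ← trace_mul C.H (hb i), mul_comm (b i), h2]
    simp only [trace, Finset.smul_sum, hsA]
    exact Finset.sum_comm

end Flat

section Global

variable {R B : Type u} [CommRing R] [CommRing B] [Algebra R B]

/-- An algebra is flat as soon as every relation is trivial near every prime. -/
theorem flat_of_locally_trivial
    (h : ∀ (P : Ideal B) [P.IsPrime] {l : ℕ} (f : Fin l → R) (x : Fin l → B), ∑ i, f i • x i = 0 →
      ∃ w ∉ P, ∃ (k : ℕ) (s : Fin l → Fin k → R) (y : Fin k → B),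
        (∀ i, w * x i = ∑ j, s i j • y j) ∧ ∀ j, ∑ i, f i * s i j = 0) : Module.Flat R B := by
  refine Module.Flat.of_forall_isTrivialRelation fun {l f x} hfx => ?_
  let I : Submodule R R := Submodule.span R (Set.range f)
  let fI : Fin l → I := fun i => ⟨f i, Submodule.subset_span ⟨i, rfl⟩⟩
  have hspan : Submodule.span R (Set.range fI) = ⊤ := by
    refine Submodule.map_injective_of_injective I.injective_subtype ?_
    rw [Submodule.map_span, Submodule.map_top, Submodule.range_subtype, ← Set.range_comp]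
    rfl
  have hiff : ∀ x : Fin l → B,
      Module.IsTrivialRelation f x ↔ ∑ i, fI i ⊗ₜ[R] x i = 0 := fun x => by
    rw [Module.isTrivialRelation_iff_vanishesTrivially,
      ← TensorProduct.vanishesTrivially_iff_sum_tmul_eq_zero R hspan]
    simp [TensorProduct.VanishesTrivially, fI, ← Subtype.coe_inj, Submodule.coe_sum, mul_comm]
  let J : Ideal B :=
    { carrier := {w | ∀ b : B, ∑ i, fI i ⊗ₜ[R] (b * w * x i) = 0}
      zero_mem' := fun b => by simp
      add_mem' := fun {u v} hu hv b => by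
        simp only [mul_add, add_mul, TensorProduct.tmul_add, Finset.sum_add_distrib, hu b, hv b,
          add_zero]
      smul_mem' := fun c w hw b => by simpa only [smul_eq_mul, ← mul_assoc] using hw (b * c) }
  have hJ : J = ⊤ := by
    by_contra hne
    obtain ⟨P, hP, hJP⟩ := Ideal.exists_le_maximal J hne
    obtain ⟨w, hw, k, s, y, hy, hs⟩ := h P f x hfx
    refine hw (hJP fun b => (hiff fun i => b * w * x i).mp ⟨k, s, fun j => b * y j, fun i => ?_, hs⟩)
    show b * w * x i = _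
    rw [mul_assoc, hy, Finset.mul_sum]
    exact Finset.sum_congr rfl fun j _ => mul_smul_comm _ _ _
  refine (hiff x).mpr ?_
  have h1 : (1 : B) ∈ J := hJ ▸ Submodule.mem_top
  simpa using h1 1

end Global

end Groth.Agent.Lib.SymLoc53
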