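import Groth.Agent.Lib.SymLoc53.BaseMap

/-!
# The comparison, near a point
-/

set_option autoImplicit false
set_option backward.isDefEq.respectTransparency false

universe u

open CategoryTheory CategoryTheory.Limits AlgebraicGeometry TopologicalSpace Opposite
open scoped TensorProduct

namespace Groth.Agent.Lib.SymLoc53.Geom

variable {X S X' S' : Scheme.{u}} (f : X ⟶ S) (f' : X' ⟶ S') (e : X' ⟶ X) {g₀ : S' ⟶ S} {d : ℕ}

/-- Functions upstairs are combinations of functions downstairs. -/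
def Spans (W : X.Opens) (V' : S'.Opens) : Prop :=
  letI := (f'.appLE V' (e ⁻¹ᵁ W ⊓ f' ⁻¹ᵁ V') inf_le_right).hom.toAlgebra
  Submodule.span Γ(S', V') (Set.range (e.appLE W (e ⁻¹ᵁ W ⊓ f' ⁻¹ᵁ V') inf_le_left)) = ⊤

/-- Affine opens over `V` pull back well to `V'`. -/
structure Good (V : S.Opens) (V' : S'.Opens) : Prop where
  affine : ∀ W : X.Opens, IsAffineOpen W → W ≤ f ⁻¹ᵁ V → IsAffineOpen (e ⁻¹ᵁ W ⊓ f' ⁻¹ᵁ V')
  spans : ∀ W : X.Opens, IsAffineOpen W → W ≤ f ⁻¹ᵁ V → Spans f' e W V'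

variable {f f' e} (hw : e ≫ f = f' ≫ g₀) {Y : Scheme.{u}} {q : SymProd.fibPow f d ⟶ Y} {g : Y ⟶ S}
  (hq : SymProd.IsSymProd f d q g) {V : S.Opens} {U : Y.Opens} {V' : S'.Opens}
  (hV : IsAffineOpen V) (hU : IsAffineOpen U) (hUV : U ≤ g ⁻¹ᵁ V) (hV' : IsAffineOpen V')
  (hV'V : V' ≤ g₀ ⁻¹ᵁ V) (hQ' : IsAffineOpen (upOpen hw hq U V').toOpens)
  (hgood : Good f f' e V V')
  (Rg : Subring Γ(SymProd.fibPow f' d, (upOpen hw hq U V').toOpens))
  (hscal : ∀ r, upScal hw hq U V' r ∈ Rg)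
  (hinv : ∀ b, (∀ h : ULift.{u} (Equiv.Perm (Fin d)), h • b = b) → upMap hw hq U V' b ∈ Rg)

include hV hU hUV hV' hV'V hgood in
theorem exists_BC {x' : SymProd.fibPow f' d} (hx' : x' ∈ (upOpen hw hq U V').toOpens) :
    ∃ (P : PointChart hq U V (powMap d hw x')) (B : BC f' e g₀ P.D), B.V' = V' ∧
      ∀ j : B.D'.J, Submodule.span B.D'.R (Set.range (e.appLE (P.D.U j) (B.D'.U j) inf_le_left)) =
        (⊤ : Submodule B.D'.R Γ(X', B.D'.U j)) := by
  obtain ⟨P⟩ := exists_pointChart hq hV hU hUV (powMap d hw x') hx'.1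
  have h1 : V' ≤ g₀ ⁻¹ᵁ P.D.V := by rw [P.V_eq]; exact hV'V
  have h2 : ∀ j, P.D.U j ≤ f ⁻¹ᵁ V := fun j => by
    have := P.D.le j
    rwa [P.V_eq] at this
  exact ⟨P, { V' := V', hV' := hV', le' := h1, haff := fun j => hgood.affine _ (P.D.hU j) (h2 j) }, rfl,
    fun j => hgood.spans _ (P.D.hU j) (h2 j)⟩

include hscal hinv in
theorem genSubring_le' :
    genSubring (G := ULift.{u} (Equiv.Perm (Fin d))) (upMap hw hq U V') (upScal hw hq U V') ≤ Rg := by
  refine Subring.closure_le.mpr ?_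
  rintro _ (⟨r, rfl⟩ | ⟨b, hb, rfl⟩)
  · exact hscal r
  · exact hinv b hb

include hV hU hUV hV' hV'V hQ' hgood hscal hinv in
/-- Near every point some section of the subring, not vanishing there, moves an invariant into the
subring, if the family upstairs is flat. -/
theorem exists_mul_mem [Flat f'] {z : Γ(SymProd.fibPow f' d, (upOpen hw hq U V').toOpens)}
    (hz : ∀ h : ULift.{u} (Equiv.Perm (Fin d)), h • z = z) {x' : SymProd.fibPow f' d}
    (hx' : x' ∈ (upOpen hw hq U V').toOpens) :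
    ∃ w ∈ Rg, x' ∈ (SymProd.fibPow f' d).basicOpen w ∧ w * z ∈ Rg := by
  obtain ⟨P, B, rfl, hspan⟩ := exists_BC hw hq hV hU hUV hV' hV'V hgood hx'
  haveI := B.flat_M'
  obtain ⟨w, hw₁, hw₂, hw₃⟩ := exists_trace_mul_mem (chartMap hw hq P B hU hQ') (upScal hw hq U B.V')
    (algebraMap B.D'.R B.D'.N) (upScal_compat hw hq P B hQ') (upScal_smul hw hq B.V')
    (fun n hn => Sym.hgen (B.μ hw) (B.span_μ hw hspan) n hn) hz
  have hfix : ∀ h : ULift.{u} (Equiv.Perm (Fin d)), h • trace (colourGrp P.D) (P.a * w) =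
      trace (colourGrp P.D) (P.a * w) :=
    smul_trace _ fun h hh => by rw [smul_mul', P.a_fix h hh, hw₁ h hh]
  refine ⟨upMap hw hq U B.V' (trace (colourGrp P.D) (P.a * w)), hinv _ hfix, ?_,
    genSubring_le' hw hq Rg hscal hinv hw₃⟩
  show x' ∈ (SymProd.fibPow f' d).basicOpen ((powMap d hw).appLE _ _ _ _)
  rw [Scheme.basicOpen_appLE]
  refine ⟨hx', ?_⟩
  show powMap d hw x' ∈ (SymProd.fibPow f d).basicOpen (trace (colourGrp P.D) (P.a * w))
  have hxQ : powMap d hw x' ∈ (stableOf hq U).toOpens := hx'.1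
  let π := ((SymProd.fibPow f d).evaluation (stableOf hq U).toOpens (powMap d hw x') hxQ).hom
  refine (Scheme.evaluation_ne_zero_iff_mem_basicOpen (X := SymProd.fibPow f d) _ hxQ _).mp ?_
  change π _ ≠ 0
  have hk := trace_sub_mem (colourGrp P.D) (RingHom.ker π).toAddSubgroup (x := P.a * w)
    (fun h hh => by rw [smul_mul', P.a_fix h hh, hw₁ h hh]) fun h hh => by
      show π _ = 0
      rw [smul_mul', map_mul, show π (h • P.a) = 0 from
        (Scheme.evaluation_eq_zero_iff_notMem_basicOpen (X := SymProd.fibPow f d) _ hxQ _).mpr (P.notMem h hh), zero_mul]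
  change π (_ - _) = 0 at hk
  rw [map_sub, sub_eq_zero] at hk
  rw [hk, map_mul]
  refine mul_ne_zero ((Scheme.evaluation_ne_zero_iff_mem_basicOpen (X := SymProd.fibPow f d) _ hxQ _).mpr P.mem) ?_
  refine (Scheme.evaluation_ne_zero_iff_mem_basicOpen (X := SymProd.fibPow f d) _ hxQ w).mpr ?_
  have hunit : IsUnit ((SymProd.fibPow f d).presheaf.map
      (homOfLE ((SymProd.fibPow f d).basicOpen_le P.a)).op w) := hw₂
  have h1 := (SymProd.fibPow f d).basicOpen_of_isUnit hunit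
  rw [Scheme.basicOpen_res] at h1
  exact (h1.ge P.mem).2

include hV hU hUV hV' hV'V hQ' hgood hscal hinv in
/-- At every point, invariants are fractions of elements of the subring. -/
theorem exists_ev_eq {z : Γ(SymProd.fibPow f' d, (upOpen hw hq U V').toOpens)}
    (hz : ∀ h : ULift.{u} (Equiv.Perm (Fin d)), h • z = z) {x' : SymProd.fibPow f' d}
    (hx' : x' ∈ (upOpen hw hq U V').toOpens) :
    ∃ b₁ ∈ Rg, ∃ b₂ ∈ Rg, (SymProd.fibPow f' d).evaluation _ x' hx' b₁ ≠ 0 ∧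
      (SymProd.fibPow f' d).evaluation _ x' hx' (b₁ * z) =
        (SymProd.fibPow f' d).evaluation _ x' hx' b₂ := by
  obtain ⟨P, B, rfl, hspan⟩ := exists_BC hw hq hV hU hUV hV' hV'V hgood hx'
  let π := ((SymProd.fibPow f' d).evaluation (upOpen hw hq U B.V').toOpens x' hx').hom
  have hev : ∀ b : Γ(SymProd.fibPow f d, (stableOf hq U).toOpens),
      π (upMap hw hq U B.V' b) ≠ 0 ↔ powMap d hw x' ∈ (SymProd.fibPow f d).basicOpen b := fun b => by
    refine (Scheme.evaluation_ne_zero_iff_mem_basicOpen (X := SymProd.fibPow f' d) x' hx' _).trans ?_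
    show x' ∈ (SymProd.fibPow f' d).basicOpen ((powMap d hw).appLE _ _ _ b) ↔ _
    rw [Scheme.basicOpen_appLE]
    exact ⟨fun h => h.2, fun h => ⟨hx', h⟩⟩
  obtain ⟨b₁, hb₁, b₂, hb₂, h1, h2⟩ := exists_fraction (chartMap hw hq P B hU hQ')
    (upScal hw hq U B.V') (algebraMap B.D'.R B.D'.N) (upScal_compat hw hq P B hQ') π
    ((hev _).mpr P.mem) (fun h hh => not_not.mp fun hc => P.notMem h hh ((hev _).mp hc))
    (fun χ n hn => Sym.hres (B.μ hw) (B.span_μ hw hspan) χ n hn) hz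
  exact ⟨b₁, genSubring_le' hw hq Rg hscal hinv hb₁, b₂, genSubring_le' hw hq Rg hscal hinv hb₂, h1, h2⟩

end Groth.Agent.Lib.SymLoc53.Geom
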