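import Groth.Agent.Lib.SymLoc53.Chart
import Groth.Agent.Lib.GrpdQuot.Invariant
import Groth.Agent.Lib.SchQuot.IsQuot

/-!
# Existence of a chart at a point of a fibre power
-/

set_option autoImplicit false
set_option backward.isDefEq.respectTransparency false

universe u

open CategoryTheory CategoryTheory.Limits AlgebraicGeometry TopologicalSpace Opposite
open scoped TensorProduct

namespace Groth.Agent.Lib.SymLoc53.Geom

variable {X S Y : Scheme.{u}} {f : X ⟶ S} {d : ℕ} {q : SymProd.fibPow f d ⟶ Y} {g : Y ⟶ S}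
  (hq : SymProd.IsSymProd f d q g)

theorem perm_apply_mul (σ τ : Equiv.Perm (Fin d)) (x : SymProd.fibPow f d) :
    SymProd.permHom f d (σ * τ) x = SymProd.permHom f d σ (SymProd.permHom f d τ x) := by
  rw [SymProd.permHom_mul, Scheme.Hom.comp_apply]

theorem perm_apply_one (x : SymProd.fibPow f d) : SymProd.permHom f d 1 x = x := by
  rw [SymProd.permHom_one]; rfl

theorem perm_specializes (σ : Equiv.Perm (Fin d)) (x : SymProd.fibPow f d)
    (h : x ⤳ SymProd.permHom f d σ x) : SymProd.permHom f d σ x = x := by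
  have key : ∀ j : ℕ, SymProd.permHom f d σ x ⤳ SymProd.permHom f d (σ ^ (j + 1)) x := by
    intro j
    induction j with
    | zero => rw [zero_add, pow_one]
    | succ j ih =>
      refine ih.trans ?_
      have h2 := h.map (SymProd.permHom f d (σ ^ (j + 1))).continuous
      rw [← perm_apply_mul, ← pow_succ] at h2
      exact h2
  have := key (orderOf σ - 1)
  rw [Nat.sub_add_cancel (orderOf_pos σ), pow_orderOf_eq_one, perm_apply_one] at this
  exact (this.antisymm h).eq

include hq in
theorem permHom_comp_quot (σ : Equiv.Perm (Fin d)) : SymProd.permHom f d σ ≫ q = q :=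
  hq.isQuot.inv ⟨σ⟩

/-- The stable open over an open of the symmetric product. -/
noncomputable def stableOf (U : Y.Opens) : StableOpen f d where
  toOpens := q ⁻¹ᵁ U
  le σ := by rw [← Scheme.Hom.comp_preimage, permHom_comp_quot hq]

variable {V : S.Opens} {U : Y.Opens}

/-- What a chart is required to do at a point. -/
structure PointChart (U : Y.Opens) (V : S.Opens) (x : SymProd.fibPow f d) where
  D : Product.Datum f d
  V_eq : D.V = V
  a : Γ(SymProd.fibPow f d, (stableOf hq U).toOpens)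
  a_fix : ∀ h ∈ colourGrp D, h • a = a
  n : D.N
  hab : (SymProd.fibPow f d).basicOpen a = (SymProd.fibPow f d).basicOpen (D.toW n)
  mem : x ∈ (SymProd.fibPow f d).basicOpen a
  notMem : ∀ h ∉ colourGrp D, x ∉ (SymProd.fibPow f d).basicOpen (h • a)

theorem exists_pointChart (hV : IsAffineOpen V) (hU : IsAffineOpen U) (hUV : U ≤ g ⁻¹ᵁ V)
    (x : SymProd.fibPow f d) (hx : q x ∈ U) : Nonempty (PointChart hq U V x) := by
  classical
  have := hq.isQuot.affine
  have hQa : IsAffineOpen (stableOf hq U).toOpens := hU.preimage q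
  have hbase : ∀ z, q z ∈ U → WidePullback.base (fun _ : Fin d => f) z ∈ V := fun z hz => by
    rw [← hq.over, Scheme.Hom.comp_apply]; exact hUV hz
  let J : Type u := Set.range fun i : Fin d => WidePullback.π (fun _ : Fin d => f) i x
  letI : Fintype J := Fintype.ofFinite _
  have hJ : ∀ j : J, f j.1 ∈ V := by
    rintro ⟨_, i, rfl⟩
    rw [← Scheme.Hom.comp_apply, WidePullback.π_arrow]
    exact hbase x hx
  have hchoose : ∀ j : J, ∃ W : X.Opens, IsAffineOpen W ∧ j.1 ∈ W ∧ W ≤ f ⁻¹ᵁ V := fun j => by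
    obtain ⟨_, ⟨W, hW, rfl⟩, h1, h2⟩ := X.isBasis_affineOpens.exists_subset_of_mem_open
      (show j.1 ∈ (f ⁻¹ᵁ V : X.Opens) from hJ j) (f ⁻¹ᵁ V).isOpen
    exact ⟨W, hW, h1, h2⟩
  choose W hW hWmem hWle using hchoose
  let D : Product.Datum f d :=
    { V := V, hV := hV, J := J, U := W, hU := hW, le := hWle, c := fun i => ⟨_, i, rfl⟩ }
  have hxW : x ∈ D.W := D.mem_W.mpr ⟨hbase x hx, fun i => hWmem _⟩
  let perm : ULift.{u} (Equiv.Perm (Fin d)) → SymProd.fibPow f d → SymProd.fibPow f d :=
    fun h z => SymProd.permHom f d h.down⁻¹ z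
  have hstab : ∀ h, perm h x = x → h ∈ colourGrp D := fun h hh i => by
    refine Subtype.ext ?_
    show WidePullback.π (fun _ : Fin d => f) (h.down i) x = WidePullback.π (fun _ : Fin d => f) i x
    conv_rhs => rw [← hh]
    show _ = WidePullback.π (fun _ : Fin d => f) i (SymProd.permHom f d h.down⁻¹ x)
    rw [← Scheme.Hom.comp_apply, SymProd.permHom_π]
    rfl
  let orbit : Set (SymProd.fibPow f d) := Set.range fun h : colourGrp D => perm h.1 x
  let bad : Set (SymProd.fibPow f d) :=
    Set.range fun h : {h // h ∉ colourGrp D} => perm h.1 x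
  have horb : ∀ z ∈ orbit, z ∈ D.W ∧ q z ∈ U := by
    rintro _ ⟨h, rfl⟩
    refine ⟨W_le_perm D h.2 hxW, ?_⟩
    show q (SymProd.permHom f d h.1.down⁻¹ x) ∈ U
    rw [← Scheme.Hom.comp_apply, permHom_comp_quot hq]
    exact hx
  have hsep : ∀ z ∈ orbit, z ∉ closure bad := by
    rintro _ ⟨h, rfl⟩ hcl
    simp only [bad] at hcl
    rw [← Set.iUnion_singleton_eq_range, closure_iUnion_of_finite] at hcl
    obtain ⟨g', hsp⟩ := Set.mem_iUnion.mp hcl
    have hsp' : perm g'.1 x ⤳ perm h.1 x := specializes_iff_mem_closure.mpr hsp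
    have h1 : x ⤳ SymProd.permHom f d (g'.1.down * h.1.down⁻¹) x := by
      have := hsp'.map (SymProd.permHom f d g'.1.down).continuous
      simp only [perm, ← perm_apply_mul] at this
      rwa [mul_inv_cancel, perm_apply_one] at this
    have h2 := perm_specializes _ x h1
    have h3 : perm (h.1 * g'.1⁻¹) x = x := by
      show SymProd.permHom f d (h.1.down * g'.1.down⁻¹)⁻¹ x = x
      rw [mul_inv_rev, inv_inv]
      exact h2
    refine g'.2 ?_
    have := (colourGrp D).mul_mem ((colourGrp D).inv_mem (hstab _ h3)) h.2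
    simpa using this
  let O : (SymProd.fibPow f d).Opens :=
    D.W ⊓ (stableOf hq U).toOpens ⊓ ⟨(closure bad)ᶜ, isClosed_closure.isOpen_compl⟩
  have horbO : orbit ⊆ O := fun z hz => ⟨⟨(horb z hz).1, (horb z hz).2⟩, hsep z hz⟩
  obtain ⟨w, hwO, hw⟩ := GrpdQuot.exists_basicOpen_le_of_finite D.isAffineOpen_W orbit
    (Set.finite_range _) horbO fun z hz => (horb z hz).1
  obtain ⟨a₀, ha₀w, ha₀⟩ := GrpdQuot.exists_basicOpen_le_of_finite hQa orbit
    (Set.finite_range _) hw fun z hz => (horb z hz).2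
  letI := Fintype.ofFinite (colourGrp D)
  let a := ∏ h : colourGrp D, h.1 • a₀
  have hmem : ∀ (s : Finset (colourGrp D)) (z : SymProd.fibPow f d), z ∈ (stableOf hq U).toOpens →
      (z ∈ (SymProd.fibPow f d).basicOpen (∏ h ∈ s, h.1 • a₀) ↔
        ∀ h ∈ s, perm h.1 z ∈ (SymProd.fibPow f d).basicOpen a₀) := by
    intro s z hz
    induction s using Finset.induction_on with
    | empty => simpa using hz
    | insert h s hs ih =>
      rw [Finset.prod_insert hs, Scheme.basicOpen_mul, TopologicalSpace.Opens.mem_inf, ih,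
        StableOpen.basicOpen_smul _ _ _ _ hz, Finset.forall_mem_insert]
  have haw : (SymProd.fibPow f d).basicOpen a ≤ (SymProd.fibPow f d).basicOpen w := fun z hz => by
    have h1 := ((hmem Finset.univ z ((SymProd.fibPow f d).basicOpen_le a hz)).mp hz)
      1 (Finset.mem_univ _)
    refine ha₀w ?_
    simpa [perm, perm_apply_one] using h1
  have haQ : (SymProd.fibPow f d).basicOpen w ≤ (stableOf hq U).toOpens := fun z hz => (hwO hz).1.2
  obtain ⟨b, hb⟩ := D.isAffineOpen_W.basicOpen_basicOpen_is_basicOpen w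
    ((SymProd.fibPow f d).presheaf.map (homOfLE haQ).op a)
  rw [Scheme.basicOpen_res, inf_eq_right.mpr haw] at hb
  obtain ⟨n, rfl⟩ := D.toW_surjective b
  refine ⟨⟨D, rfl, a, fun h hh => ?_, n, hb.symm, (hmem Finset.univ x hx).mpr fun h _ => ha₀ ⟨h, rfl⟩,
    fun h hh hxa => ?_⟩⟩
  · show h • ∏ k : colourGrp D, k.1 • a₀ = ∏ k : colourGrp D, k.1 • a₀
    rw [Finset.smul_prod']
    refine Fintype.prod_equiv (Equiv.mulLeft ⟨h, hh⟩) _ _ fun k => ?_
    show h • k.1 • _ = (h * k.1) • _
    rw [mul_smul]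
  · have hzQ : perm h x ∈ (stableOf hq U).toOpens := (stableOf hq U).le _ hx
    have h1 : perm h x ∈ (SymProd.fibPow f d).basicOpen a :=
      (StableOpen.basicOpen_smul _ h a x hx).mp hxa
    exact (hwO (haw h1)).2 (subset_closure ⟨⟨h, hh⟩, rfl⟩)

end Groth.Agent.Lib.SymLoc53.Geom
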