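import Groth.Agent.Lib.SymLoc53.Sym
import Groth.Prelude.Def_SymProd
import Mathlib.AlgebraicGeometry.AffineScheme

/-!
# Product charts of a fibre power are affine, and are localisations of a tensor power

For affine opens `U j` over an affine open `V` of the base and a colouring `c : Fin d → J`, the
product of the `U (c i)` in the fibre power is affine and its ring of sections is the localisation
of the `d`-th tensor power of `∏ j, Γ(U j)` at an idempotent.
-/

set_option autoImplicit false
set_option backward.isDefEq.respectTransparency false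

universe u

open CategoryTheory CategoryTheory.Limits AlgebraicGeometry TopologicalSpace Opposite
open scoped TensorProduct

namespace Groth.Agent.Lib.SymLoc53.Product

theorem toSpecΓ_appLE_fromSpec {X Y : Scheme.{u}} (f : X ⟶ Y) {U : Y.Opens} (hU : IsAffineOpen U)
    (V : X.Opens) (e : V ≤ f ⁻¹ᵁ U) :
    V.toSpecΓ ≫ Spec.map (f.appLE U V e) ≫ hU.fromSpec = V.ι ≫ f := by
  rw [← Category.assoc, Scheme.Opens.toSpecΓ_SpecMap_appLE, Category.assoc, hU.toSpecΓ_fromSpec,
    Scheme.Hom.resLE_comp_ι]

theorem appLE_congr_hom {X Y : Scheme.{u}} {f g : X ⟶ Y} (h : f = g) (U : Y.Opens) (V : X.Opens)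
    (e : V ≤ f ⁻¹ᵁ U) (e' : V ≤ g ⁻¹ᵁ U) : f.appLE U V e = g.appLE U V e' := by
  subst h
  rfl

/-- Two maps into an affine spectrum are equal if they agree on global functions. -/
theorem hom_ext_Spec {T : Scheme.{u}} {A : CommRingCat.{u}} (g₁ g₂ : T ⟶ Spec A)
    (h : ((Scheme.ΓSpecIso A).inv ≫ g₁.appTop) = (Scheme.ΓSpecIso A).inv ≫ g₂.appTop) : g₁ = g₂ :=
  ext_of_isAffine ((cancel_epi (Scheme.ΓSpecIso A).inv).mp h)

theorem comp_SpecMap_appTop {T : Scheme.{u}} {A B : CommRingCat.{u}} (g : T ⟶ Spec A) (φ : B ⟶ A) :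
    (Scheme.ΓSpecIso B).inv ≫ (g ≫ Spec.map φ).appTop = φ ≫ (Scheme.ΓSpecIso A).inv ≫ g.appTop := by
  rw [Scheme.Hom.comp_appTop, Scheme.ΓSpecIso_inv_naturality_assoc]

/-- The data of a product chart. -/
structure Datum {X S : Scheme.{u}} (f : X ⟶ S) (d : ℕ) where
  V : S.Opens
  hV : IsAffineOpen V
  J : Type u
  [fintypeJ : Fintype J]
  [decEqJ : DecidableEq J]
  U : J → X.Opens
  hU : ∀ j, IsAffineOpen (U j)
  le : ∀ j, U j ≤ f ⁻¹ᵁ V
  c : Fin d → J

attribute [instance] Datum.fintypeJ Datum.decEqJ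

variable {X S : Scheme.{u}} {f : X ⟶ S} {d : ℕ} (D : Datum f d)

namespace Datum

/-- The base ring. -/
abbrev R : Type u := Γ(S, D.V)

noncomputable instance algU (j : D.J) : Algebra D.R Γ(X, D.U j) :=
  (f.appLE D.V (D.U j) (D.le j)).hom.toAlgebra

/-- The product ring. -/
abbrev M : Type u := (j : D.J) → Γ(X, D.U j)

/-- The tensor power. -/
abbrev N : Type u := ⨂[D.R] _ : Fin d, D.M

/-- The product chart. -/
noncomputable def W : (SymProd.fibPow f d).Opens :=
  (WidePullback.base (fun _ : Fin d => f)) ⁻¹ᵁ D.V ⊓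
    ⨅ i, (WidePullback.π (fun _ : Fin d => f) i) ⁻¹ᵁ D.U (D.c i)

theorem mem_W {x : SymProd.fibPow f d} : x ∈ D.W ↔
    WidePullback.base (fun _ : Fin d => f) x ∈ D.V ∧
      ∀ i, WidePullback.π (fun _ : Fin d => f) i x ∈ D.U (D.c i) := by
  rw [W, TopologicalSpace.Opens.mem_inf, ← SetLike.mem_coe (p := ⨅ i, _),
    TopologicalSpace.Opens.coe_iInf]
  · simp

theorem W_le_base : D.W ≤ (WidePullback.base (fun _ : Fin d => f)) ⁻¹ᵁ D.V := inf_le_left

theorem W_le (i : Fin d) : D.W ≤ (WidePullback.π (fun _ : Fin d => f) i) ⁻¹ᵁ D.U (D.c i) :=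
  inf_le_right.trans (iInf_le _ i)

noncomputable instance algW : Algebra D.R Γ(SymProd.fibPow f d, D.W) :=
  ((WidePullback.base (fun _ : Fin d => f)).appLE D.V D.W D.W_le_base).hom.toAlgebra

/-- The unit of a factor of the product ring. -/
noncomputable def one' (j : D.J) : D.M := Pi.single j 1

/-- The idempotent cutting out the chart. -/
noncomputable def e : D.N :=
  ∏ i, PiTensorProduct.singleAlgHom (R := D.R) (A := fun _ : Fin d => D.M) i (D.one' (D.c i))

theorem one'_mul (j : D.J) (m : D.M) : D.one' j * m = Pi.single j (m j) := by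
  funext k
  rcases eq_or_ne k j with rfl | h
  · simp [one']
  · simp [one', h]

theorem e_mul_self : D.e * D.e = D.e := by
  rw [e, ← Finset.prod_mul_distrib]
  refine Finset.prod_congr rfl fun i _ => ?_
  rw [← map_mul, one'_mul, one']
  simp

theorem e_mul_single (i : Fin d) (m : D.M) :
    D.e * PiTensorProduct.singleAlgHom (R := D.R) (A := fun _ : Fin d => D.M) i m =
      D.e * PiTensorProduct.singleAlgHom (R := D.R) (A := fun _ : Fin d => D.M) i
        (Pi.single (D.c i) (m (D.c i))) := by
  rw [e, ← Finset.mul_prod_erase _ _ (Finset.mem_univ i), ← one'_mul, map_mul]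
  have h := congrArg (PiTensorProduct.singleAlgHom (R := D.R) (A := fun _ : Fin d => D.M) i)
    (show D.one' (D.c i) * D.one' (D.c i) = D.one' (D.c i) by rw [one'_mul, one']; simp)
  rw [map_mul] at h
  conv_lhs => rw [← h]
  ring

/-- The localised tensor power. -/
abbrev Ne : Type u := Localization.Away D.e

theorem map_e : algebraMap D.N D.Ne D.e = 1 := by
  have hu : IsUnit (algebraMap D.N D.Ne D.e) := IsLocalization.Away.algebraMap_isUnit _
  refine hu.mul_left_cancel ?_
  rw [← map_mul, D.e_mul_self, mul_one]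

/-- The components of the chart. -/
noncomputable def comp (i : Fin d) : Γ(X, D.U (D.c i)) →+* D.Ne where
  toFun a := algebraMap D.N D.Ne
    (PiTensorProduct.singleAlgHom (R := D.R) (A := fun _ : Fin d => D.M) i (Pi.single (D.c i) a))
  map_one' := by
    have h := D.e_mul_single i 1
    rw [map_one, mul_one, Pi.one_apply] at h
    have := congrArg (algebraMap D.N D.Ne) h
    rw [map_mul, map_e, one_mul] at this
    exact this.symm
  map_mul' a b := by rw [Pi.single_mul, map_mul, map_mul]
  map_zero' := by rw [Pi.single_zero, map_zero, map_zero]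
  map_add' a b := by rw [Pi.single_add, map_add, map_add]

theorem map_single (i : Fin d) (m : D.M) : algebraMap D.N D.Ne
    (PiTensorProduct.singleAlgHom (R := D.R) (A := fun _ : Fin d => D.M) i m) =
      D.comp i (m (D.c i)) := by
  have h := congrArg (algebraMap D.N D.Ne) (D.e_mul_single i m)
  rwa [map_mul, map_mul, map_e, one_mul, one_mul] at h

theorem comp_algebraMap (i : Fin d) (r : D.R) :
    D.comp i (algebraMap D.R Γ(X, D.U (D.c i)) r) = algebraMap D.R D.Ne r := by
  rw [IsScalarTower.algebraMap_apply D.R D.N D.Ne, ← AlgHom.commutes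
    (PiTensorProduct.singleAlgHom (R := D.R) (A := fun _ : Fin d => D.M) i) r, map_single]
  rfl

theorem appLE_comp (i : Fin d) :
    f.appLE D.V (D.U (D.c i)) (D.le _) ≫ CommRingCat.ofHom (D.comp i) =
      CommRingCat.ofHom (algebraMap D.R D.Ne) :=
  CommRingCat.hom_ext (RingHom.ext fun r => D.comp_algebraMap i r)

/-- The chart as a map. -/
noncomputable def toPow : Spec (CommRingCat.of D.Ne) ⟶ SymProd.fibPow f d :=
  WidePullback.lift (Spec.map (CommRingCat.ofHom (algebraMap D.R D.Ne)) ≫ D.hV.fromSpec)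
    (fun i => Spec.map (CommRingCat.ofHom (D.comp i)) ≫ (D.hU (D.c i)).fromSpec)
    (fun i => by
      rw [Category.assoc, ← IsAffineOpen.SpecMap_appLE_fromSpec f D.hV (D.hU _) (D.le _),
        ← Category.assoc, ← Spec.map_comp, D.appLE_comp])

theorem toPow_base : D.toPow ≫ WidePullback.base (fun _ : Fin d => f) =
    Spec.map (CommRingCat.ofHom (algebraMap D.R D.Ne)) ≫ D.hV.fromSpec :=
  WidePullback.lift_base _ _ _ _

theorem toPow_π (i : Fin d) : D.toPow ≫ WidePullback.π (fun _ : Fin d => f) i =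
    Spec.map (CommRingCat.ofHom (D.comp i)) ≫ (D.hU (D.c i)).fromSpec :=
  WidePullback.lift_π _ _ _ _ i

theorem range_toPow : Set.range D.toPow ⊆ (D.W : Set (SymProd.fibPow f d)) := by
  rintro _ ⟨z, rfl⟩
  refine D.mem_W.mpr ⟨?_, fun i => ?_⟩
  · rw [← Scheme.Hom.comp_apply, toPow_base, Scheme.Hom.comp_apply]
    exact D.hV.range_fromSpec.subset ⟨_, rfl⟩
  · rw [← Scheme.Hom.comp_apply, toPow_π, Scheme.Hom.comp_apply]
    exact (D.hU _).range_fromSpec.subset ⟨_, rfl⟩

/-- The factor maps to the sections of the chart. -/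
noncomputable def factor (i : Fin d) : D.M →ₐ[D.R] Γ(SymProd.fibPow f d, D.W) where
  __ := ((WidePullback.π (fun _ : Fin d => f) i).appLE (D.U (D.c i)) D.W (D.W_le i)).hom.comp
    (Pi.evalRingHom _ (D.c i))
  commutes' r := by
    show ((WidePullback.π (fun _ : Fin d => f) i).appLE (D.U (D.c i)) D.W (D.W_le i))
      (f.appLE D.V (D.U (D.c i)) (D.le _) r) = _
    rw [← CommRingCat.comp_apply, Scheme.Hom.appLE_comp_appLE,
      appLE_congr_hom (WidePullback.π_arrow (fun _ : Fin d => f) i) D.V D.W _ D.W_le_base]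
    rfl

theorem factor_apply (i : Fin d) (m : D.M) : D.factor i m =
    (WidePullback.π (fun _ : Fin d => f) i).appLE (D.U (D.c i)) D.W (D.W_le i) (m (D.c i)) := rfl

/-- The tensor power maps to the sections of the chart. -/
noncomputable def toW : D.N →ₐ[D.R] Γ(SymProd.fibPow f d, D.W) := PolLaw.SymPoints.prodLift D.factor

theorem toW_single (i : Fin d) (m : D.M) :
    D.toW (PiTensorProduct.singleAlgHom (R := D.R) (A := fun _ : Fin d => D.M) i m) = D.factor i m :=
  PolLaw.SymPoints.prodLift_single _ i m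

theorem toW_e : D.toW D.e = 1 := by
  rw [e, map_prod]
  refine Finset.prod_eq_one fun i _ => ?_
  rw [toW_single, factor_apply, one', Pi.single_eq_same, map_one]

/-- The localised tensor power maps to the sections of the chart. -/
noncomputable def toW' : D.Ne →+* Γ(SymProd.fibPow f d, D.W) :=
  IsLocalization.Away.lift D.e (g := D.toW.toRingHom) (by
    show IsUnit (D.toW D.e)
    rw [toW_e]
    exact isUnit_one)

theorem toW'_algebraMap (n : D.N) : D.toW' (algebraMap D.N D.Ne n) = D.toW n :=
  IsLocalization.Away.lift_eq _ _ n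

theorem toW'_comp (i : Fin d) : CommRingCat.ofHom (D.comp i) ≫ CommRingCat.ofHom D.toW' =
    (WidePullback.π (fun _ : Fin d => f) i).appLE (D.U (D.c i)) D.W (D.W_le i) := by
  refine CommRingCat.hom_ext (RingHom.ext fun a => ?_)
  show D.toW' (algebraMap D.N D.Ne _) = _
  rw [toW'_algebraMap]
  refine (D.toW_single i _).trans ?_
  rw [factor_apply, Pi.single_eq_same]

theorem toW'_base : CommRingCat.ofHom (algebraMap D.R D.Ne) ≫ CommRingCat.ofHom D.toW' =
    (WidePullback.base (fun _ : Fin d => f)).appLE D.V D.W D.W_le_base := by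
  refine CommRingCat.hom_ext (RingHom.ext fun r => ?_)
  show D.toW' (algebraMap D.R D.Ne r) = _
  rw [IsScalarTower.algebraMap_apply D.R D.N D.Ne, toW'_algebraMap, AlgHom.commutes]
  rfl

theorem toSpec_toPow :
    (D.W.toSpecΓ ≫ Spec.map (CommRingCat.ofHom D.toW')) ≫ D.toPow = D.W.ι := by
  apply WidePullback.hom_ext
  · intro i
    rw [Category.assoc, toPow_π, Category.assoc, ← Category.assoc (Spec.map _), ← Spec.map_comp,
      D.toW'_comp i]
    exact toSpecΓ_appLE_fromSpec _ (D.hU _) D.W (D.W_le i)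
  · rw [Category.assoc, toPow_base, Category.assoc, ← Category.assoc (Spec.map _), ← Spec.map_comp,
      D.toW'_base]
    exact toSpecΓ_appLE_fromSpec _ D.hV D.W D.W_le_base

/-- The chart is the spectrum of the localised tensor power. -/
noncomputable def iso : D.W.toScheme ≅ Spec (CommRingCat.of D.Ne) where
  hom := D.W.toSpecΓ ≫ Spec.map (CommRingCat.ofHom D.toW')
  inv := IsOpenImmersion.lift D.W.ι D.toPow (by rw [Scheme.Opens.range_ι]; exact D.range_toPow)
  hom_inv_id := by
    rw [← cancel_mono D.W.ι, Category.id_comp, Category.assoc, IsOpenImmersion.lift_fac]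
    exact D.toSpec_toPow
  inv_hom_id := by
    have key : ∀ (g₁ g₂ : Spec (CommRingCat.of D.Ne) ⟶ Spec (CommRingCat.of D.Ne)),
        g₁ ≫ D.toPow = g₂ ≫ D.toPow → g₁ = g₂ := by
      intro g₁ g₂ h
      refine hom_ext_Spec g₁ g₂ (CommRingCat.hom_ext (IsLocalization.ringHom_ext
        (Submonoid.powers D.e) ?_))
      let h₁ := ((Scheme.ΓSpecIso (CommRingCat.of D.Ne)).inv ≫ g₁.appTop).hom
      let h₂ := ((Scheme.ΓSpecIso (CommRingCat.of D.Ne)).inv ≫ g₂.appTop).hom
      have hR : ∀ r : D.R, h₁ (algebraMap D.R D.Ne r) = h₂ (algebraMap D.R D.Ne r) := fun r => by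
        have h' := congrArg (· ≫ WidePullback.base (fun _ : Fin d => f)) h
        simp only [Category.assoc, toPow_base] at h'
        rw [← Category.assoc, ← Category.assoc, cancel_mono] at h'
        have h'' := congrArg (fun g => (Scheme.ΓSpecIso (CommRingCat.of D.R)).inv ≫ g.appTop) h'
        simp only [comp_SpecMap_appTop] at h''
        exact congrArg (fun φ => φ.hom r) h''
      have hi : ∀ i a, h₁ (D.comp i a) = h₂ (D.comp i a) := fun i a => by
        have h' := congrArg (· ≫ WidePullback.π (fun _ : Fin d => f) i) h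
        simp only [Category.assoc, toPow_π] at h'
        rw [← Category.assoc, ← Category.assoc, cancel_mono] at h'
        have h'' := congrArg (fun g =>
          (Scheme.ΓSpecIso (CommRingCat.of Γ(X, D.U (D.c i)))).inv ≫ g.appTop) h'
        simp only [comp_SpecMap_appTop] at h''
        exact congrArg (fun φ => φ.hom a) h''
      letI : Algebra D.R Γ(Spec (CommRingCat.of D.Ne), ⊤) :=
        (h₁.comp (algebraMap D.R D.Ne)).toAlgebra
      let a₁ : D.N →ₐ[D.R] Γ(Spec (CommRingCat.of D.Ne), ⊤) :=
        { h₁.comp (algebraMap D.N D.Ne) with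
          commutes' := fun r => by
            show h₁ (algebraMap D.N D.Ne (algebraMap D.R D.N r)) = _
            rw [← IsScalarTower.algebraMap_apply]; rfl }
      let a₂ : D.N →ₐ[D.R] Γ(Spec (CommRingCat.of D.Ne), ⊤) :=
        { h₂.comp (algebraMap D.N D.Ne) with
          commutes' := fun r => by
            show h₂ (algebraMap D.N D.Ne (algebraMap D.R D.N r)) = _
            rw [← IsScalarTower.algebraMap_apply, ← hR]; rfl }
      have ha : a₁ = a₂ := PiTensorProduct.algHom_ext fun i => AlgHom.ext fun m => by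
        show h₁ (algebraMap D.N D.Ne _) = h₂ (algebraMap D.N D.Ne _)
        exact ((congrArg h₁ (D.map_single i m)).trans (hi i _)).trans
          (congrArg h₂ (D.map_single i m)).symm
      exact congrArg AlgHom.toRingHom ha
    refine key _ _ ?_
    rw [Category.id_comp, Category.assoc, D.toSpec_toPow]
    exact IsOpenImmersion.lift_fac _ _ _

theorem isAffineOpen_W : IsAffineOpen D.W := IsAffine.of_isIso D.iso.hom

theorem toW'_bijective : Function.Bijective D.toW' := by
  haveI : IsAffine D.W.toScheme := D.isAffineOpen_W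
  haveI : IsIso (D.W.toSpecΓ) := inferInstanceAs (IsIso D.isAffineOpen_W.isoSpec.hom)
  have h : IsIso (D.W.toSpecΓ ≫ Spec.map (CommRingCat.ofHom D.toW')) :=
    inferInstanceAs (IsIso D.iso.hom)
  haveI : IsIso (Spec.map (CommRingCat.ofHom D.toW')) := IsIso.of_isIso_comp_left D.W.toSpecΓ _
  haveI : IsIso (CommRingCat.ofHom D.toW') := by
    obtain ⟨g, hg⟩ := Spec.map_surjective (inv (Spec.map (CommRingCat.ofHom D.toW')))
    refine ⟨g, ?_, ?_⟩ <;> apply Spec.map_injective <;> simp [hg]
  exact ConcreteCategory.bijective_of_isIso (CommRingCat.ofHom D.toW')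

theorem toW_surjective : Function.Surjective D.toW := fun w => by
  obtain ⟨z, rfl⟩ := D.toW'_bijective.2 w
  obtain ⟨k, n, hn⟩ := IsLocalization.Away.surj D.e z
  refine ⟨n, ?_⟩
  rw [← toW'_algebraMap, ← hn, map_e, one_pow, mul_one]

theorem eq_of_toW_eq {x y : D.N} (h : D.toW x = D.toW y) : D.e * x = D.e * y := by
  rw [← toW'_algebraMap, ← toW'_algebraMap] at h
  obtain ⟨k, hk⟩ := IsLocalization.Away.exists_of_eq D.e (D.toW'_bijective.1 h)
  have he : ∀ k : ℕ, D.e * D.e ^ k = D.e := fun k => by
    induction k with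
    | zero => rw [pow_zero, mul_one]
    | succ k ih => rw [pow_succ, ← mul_assoc, ih, D.e_mul_self]
  rw [← he k, mul_assoc, mul_assoc, hk]

end Datum

end Groth.Agent.Lib.SymLoc53.Product
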